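import Mathlib

/-!
Binary irreducible linear groups: rules for elements with maximal fixed spaces.
-/

set_option autoImplicit false
set_option linter.unusedSectionVars false
set_option linter.style.haveILetI false

namespace CfsgLib.BinAff

variable {H V : Type*} [Group H] [AddCommGroup V] [DistribMulAction H V]

/-- The data of a binary irreducible linear group. -/
structure Data (H V : Type*) [Group H] [AddCommGroup V] [DistribMulAction H V] : Prop where
  irr : ∀ P : AddSubgroup V, (∀ h : H, ∀ v ∈ P, h • v ∈ P) → P = ⊥ ∨ P = ⊤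
  swap : ∀ x y : V, (∃ h : H, h • x = y) →
    ∃ j : H, j • x = y ∧ ∀ z : V, (∃ h : H, h • (z - x) = z - y) → j • z = z
  faithful : ∀ h : H, (∀ v : V, h • v = v) → h = 1
  two : (∀ v : V, v + v = 0) ∨ (∀ v : V, v + v = 0 → v = 0)
  finH : Finite H
  finV : Finite V

/-- The fixed space of an element. -/
def fix (h : H) : AddSubgroup V where
  carrier := {v | h • v = v}
  zero_mem' := smul_zero h
  add_mem' := fun {x y} hx hy => by
    show h • (x + y) = x + y
    rw [smul_add, show h • x = x from hx, show h • y = y from hy]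
  neg_mem' := fun {x} hx => by
    show h • (-x) = -x
    rw [smul_neg, show h • x = x from hx]

theorem mem_fix {h : H} {v : V} : v ∈ fix h ↔ h • v = v := Iff.rfl

theorem fix_mul {g h : H} {v : V} (hg : g • v = v) (hh : h • v = v) : (g * h) • v = v := by
  rw [mul_smul, hh, hg]

theorem fix_inv {g : H} {v : V} (hg : g • v = v) : g⁻¹ • v = v := by
  rw [inv_smul_eq_iff, hg]

/-- The displacement map. -/
def mv (h : H) : V →+ V :=
  AddMonoidHom.mk' (fun v => v - h • v) (fun x y => by simp only [smul_add]; abel)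

@[simp] theorem mv_apply (h : H) (v : V) : mv h v = v - h • v := rfl

/-- The displacement space. -/
def U (h : H) : AddSubgroup V := (mv h).range

theorem sub_mem_U (h : H) (v : V) : v - h • v ∈ (U h : AddSubgroup V) := ⟨v, rfl⟩

theorem exists_of_mem_U {h : H} {d : V} (hd : d ∈ (U h : AddSubgroup V)) :
    ∃ y, y - h • y = d := hd

theorem ker_mv (h : H) : (mv h : V →+ V).ker = fix h := by
  ext v
  rw [AddMonoidHom.mem_ker, mv_apply, sub_eq_zero, mem_fix]
  exact eq_comm

theorem card_U_mul (h : H) :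
    Nat.card (U h : AddSubgroup V) * Nat.card (fix h : AddSubgroup V) = Nat.card V := by
  rw [mul_comm, ← ker_mv, U, ← AddSubgroup.index_ker, AddSubgroup.card_mul_index]

theorem card_sup_of_disjoint {A B : AddSubgroup V} (h : A ⊓ B = ⊥) :
    Nat.card ↥(A ⊔ B) = Nat.card A * Nat.card B := by
  let f : ↥A × ↥B →+ V := A.subtype.coprod B.subtype
  have hf : Function.Injective f := by
    rw [injective_iff_map_eq_zero]
    rintro ⟨⟨a, ha⟩, ⟨b, hb⟩⟩ hab
    have hab' : a + b = 0 := by simpa [f] using hab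
    have : a ∈ A ⊓ B := ⟨ha, by rw [eq_neg_of_add_eq_zero_left hab']; exact B.neg_mem hb⟩
    rw [h, AddSubgroup.mem_bot] at this
    subst this
    simp only [zero_add] at hab'
    subst hab'
    rfl
  have hr : f.range = A ⊔ B := by
    ext v
    rw [AddSubgroup.mem_sup, AddMonoidHom.mem_range]
    constructor
    · rintro ⟨⟨a, b⟩, rfl⟩
      exact ⟨a, a.2, b, b.2, by simp [f]⟩
    · rintro ⟨a, ha, b, hb, rfl⟩
      exact ⟨(⟨a, ha⟩, ⟨b, hb⟩), by simp [f]⟩
  rw [← hr, ← Nat.card_prod]
  exact (Nat.card_congr (AddMonoidHom.ofInjective hf).toEquiv).symm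

theorem card_mul_le [Finite V] {A B C : AddSubgroup V} (h : A ⊓ B = ⊥) (hA : A ≤ C) (hB : B ≤ C) :
    Nat.card A * Nat.card B ≤ Nat.card C := by
  rw [← card_sup_of_disjoint h]
  exact AddSubgroup.card_le_of_le (sup_le hA hB)

theorem eq_of_le_of_card_le [Finite V] {A B : AddSubgroup V} (h : A ≤ B)
    (hc : Nat.card B ≤ Nat.card A) : A = B :=
  AddSubgroup.eq_of_le_of_card_ge h hc

theorem card_le_inf_mul [Finite V] (A : AddSubgroup V) (h : H) :
    Nat.card A ≤ Nat.card ↥(A ⊓ fix h) * Nat.card (U h : AddSubgroup V) := by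
  have h1 := AddSubgroup.card_mul_index ((mv h).comp A.subtype).ker
  rw [AddSubgroup.index_ker] at h1
  rw [← h1]
  refine Nat.mul_le_mul (le_of_eq ?_) (AddSubgroup.card_le_of_le ?_)
  · refine Nat.card_congr ⟨fun a => ⟨a.1, a.1.2, ?_⟩, fun a => ⟨⟨a.1, a.2.1⟩, ?_⟩,
      fun a => rfl, fun a => rfl⟩
    · exact (sub_eq_zero.1 (show ((a : ↥A) : V) - h • ((a : ↥A) : V) = 0 from a.2)).symm
    · show ((a : V) - h • (a : V)) = 0
      rw [show h • (a : V) = a from a.2.2, sub_self]
  · rintro _ ⟨a, rfl⟩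
    exact sub_mem_U h _

theorem exists_ne_zero {A : AddSubgroup V} (hA : A ≠ ⊥) : ∃ d ∈ A, d ≠ 0 := by
  obtain ⟨d, hd, hd0⟩ := (AddSubgroup.bot_or_exists_ne_zero A).resolve_left hA
  exact ⟨d, hd, hd0⟩

/-- An element with maximal fixed space. -/
def Max (V : Type*) [AddCommGroup V] [DistribMulAction H V] (r : H) : Prop :=
  r ≠ 1 ∧ ∀ h : H, h ≠ 1 → (fix r : AddSubgroup V) ≤ fix h → (fix h : AddSubgroup V) ≤ fix r

theorem exists_max (D : Data H V) {h : H} (hh : h ≠ 1) :
    ∃ r : H, Max V r ∧ (fix h : AddSubgroup V) ≤ fix r := by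
  haveI := D.finH
  haveI := D.finV
  let s : Set H := {g | g ≠ 1 ∧ (fix h : AddSubgroup V) ≤ fix g}
  obtain ⟨r, hr, hmax⟩ := Set.exists_max_image s (fun g => Nat.card (fix g : AddSubgroup V))
    (Set.toFinite s) ⟨h, hh, le_rfl⟩
  refine ⟨r, ⟨hr.1, fun g hg hle => ?_⟩, hr.2⟩
  exact (eq_of_le_of_card_le hle (hmax g ⟨hg, hr.2.trans hle⟩)).ge

theorem fix_ne_top (D : Data H V) {h : H} (hh : h ≠ 1) : ∃ y : V, h • y ≠ y := by
  by_contra hc
  push Not at hc
  exact hh (D.faithful h hc)

theorem U_ne_bot (D : Data H V) {h : H} (hh : h ≠ 1) : (U h : AddSubgroup V) ≠ ⊥ := by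
  intro hb
  obtain ⟨y, hy⟩ := fix_ne_top D hh
  have := sub_mem_U (V := V) h y
  rw [hb, AddSubgroup.mem_bot, sub_eq_zero] at this
  exact hy this.symm

theorem swapEl (D : Data H V) (g : H) (x : V) :
    ∃ j : H, j • x = g • x ∧ j • (g • x) = x ∧ ∀ z : V, g • z = z → j • z = z := by
  obtain ⟨j, hj, hS⟩ := D.swap x (g • x) ⟨g, rfl⟩
  have h1 : j • (x + g • x) = x + g • x := by
    refine hS _ ⟨g⁻¹, ?_⟩
    rw [add_sub_cancel_left, add_sub_cancel_right, inv_smul_smul]
  refine ⟨j, hj, ?_, fun z hz => hS z ⟨g, by rw [smul_sub, hz]⟩⟩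
  rw [smul_add, hj, add_comm x] at h1
  exact add_left_cancel h1

namespace Max

variable {r s : H}

theorem semireg (hr : Max V r) {f : H} (hf : (fix r : AddSubgroup V) ≤ fix f) {x : V}
    (hfx : f • x = x) (hx : r • x ≠ x) : f = 1 := by
  by_contra hne
  exact hx (hr.2 f hne hf hfx)

theorem eq_of (hr : Max V r) {f : H} (hf : (fix r : AddSubgroup V) ≤ fix f) {y : V}
    (hy : f • y = r • y) (hyr : r • y ≠ y) : f = r := by
  have : r⁻¹ * f = 1 := hr.semireg (x := y)
    (fun w hw => fix_mul (fix_inv hw) (hf hw)) (by rw [mul_smul, hy, inv_smul_smul]) hyr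
  exact (inv_mul_eq_one.1 this).symm

theorem smul_smul_self (D : Data H V) (hr : Max V r) (y : V) : r • r • y = y := by
  by_cases hy : r • y = y
  · rw [hy, hy]
  obtain ⟨j, h1, h2, h3⟩ := swapEl D r y
  have hjr : j = r := hr.eq_of (fun w hw => h3 w hw) h1 hy
  rw [hjr] at h2
  exact h2

theorem mul_self (D : Data H V) (hr : Max V r) : r * r = 1 :=
  D.faithful _ fun v => by rw [mul_smul, hr.smul_smul_self D]

theorem inv_eq (D : Data H V) (hr : Max V r) : r⁻¹ = r :=
  inv_eq_of_mul_eq_one_right (hr.mul_self D)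

theorem smul_U (D : Data H V) (hr : Max V r) {d : V} (hd : d ∈ (U r : AddSubgroup V)) :
    r • d = -d := by
  obtain ⟨y, rfl⟩ := exists_of_mem_U hd
  rw [smul_sub, hr.smul_smul_self D, neg_sub]

theorem fix_of_two (D : Data H V) (hr : Max V r) (h2 : ∀ v : V, v + v = 0) :
    (U r : AddSubgroup V) ≤ fix r := fun d hd => by
  rw [mem_fix, hr.smul_U D hd]
  exact neg_eq_of_add_eq_zero_left (h2 d)

theorem disj_of_odd (D : Data H V) (hr : Max V r) (h2 : ∀ v : V, v + v = 0 → v = 0) :
    (U r : AddSubgroup V) ⊓ fix r = ⊥ := by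
  rw [eq_bot_iff]
  rintro d ⟨hd, hd'⟩
  replace hd' : r • d = d := hd'
  rw [hr.smul_U D hd] at hd'
  exact AddSubgroup.mem_bot.2 (h2 d (add_eq_zero_iff_eq_neg.2 hd'.symm))

/-- The main rule. -/
theorem rule (D : Data H V) (hr : Max V r) {y v : V} (hy : r • y ≠ y) {h : H}
    (hv : h • v = v - (y - r • y)) : v - r • v = y - r • y := by
  obtain ⟨j, hj, hS⟩ := D.swap y (r • y) ⟨r, rfl⟩
  have hjr : j = r :=
    hr.eq_of (fun w hw => hS w ⟨r, by rw [smul_sub, show r • w = w from hw]⟩) hj hy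
  have := hS (y - v) ⟨h, by rw [sub_sub_cancel_left, smul_neg, hv]; abel⟩
  rw [hjr, smul_sub] at this
  rw [← sub_eq_zero] at this ⊢
  rw [← this]
  abel

theorem stab_comm (D : Data H V) (hr : Max V r) {d : V} (hd : d ∈ (U r : AddSubgroup V))
    (hd0 : d ≠ 0) {g : H} (hg : g • d = d) : g * r = r * g := by
  obtain ⟨y, rfl⟩ := exists_of_mem_U hd
  have hy : r • y ≠ y := fun h => hd0 (by rw [h, sub_self])
  have key : ∀ w : V, r • w = w → r • g • (y + w) = g • r • (y + w) := by
    intro w hw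
    have e : y + w - r • (y + w) = y - r • y := by rw [smul_add, hw]; abel
    have := hr.rule D hy (v := g • (y + w)) (h := g * r * g⁻¹)
      (by rw [mul_smul, mul_smul, inv_smul_smul]
          rw [show g • r • (y + w) = g • (y + w) - g • (y + w - r • (y + w)) by
            rw [smul_sub, sub_sub_cancel], e, hg])
    conv_rhs at this => rw [← hg, ← e, smul_sub]
    exact sub_right_injective this
  have k0 := key 0 (smul_zero r)
  rw [add_zero] at k0
  have hfix : (fix r : AddSubgroup V) ≤ fix (g⁻¹ * r * g) := by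
    intro w hw
    have h1 := key w hw
    rw [smul_add, smul_add, smul_add, show r • w = w from hw, smul_add, k0] at h1
    rw [mem_fix, mul_smul, mul_smul, add_left_cancel h1, inv_smul_smul]
  have := hr.eq_of hfix (y := y) (by rw [mul_smul, mul_smul, k0, inv_smul_smul]) hy
  rw [mul_assoc, inv_mul_eq_iff_eq_mul] at this
  exact this.symm

theorem eq_of_U (D : Data H V) (hr : Max V r) (hs : Max V s) {d : V}
    (hd : d ∈ (U r : AddSubgroup V)) (hd' : d ∈ (U s : AddSubgroup V)) (hd0 : d ≠ 0) : r = s := by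
  obtain ⟨yr, rfl⟩ := exists_of_mem_U hd
  obtain ⟨y, hy⟩ := exists_of_mem_U hd'
  have hyr : r • yr ≠ yr := fun h => hd0 (by rw [h, sub_self])
  have hys : s • y ≠ y := fun h => hd0 (by rw [← hy, h, sub_self])
  have key : ∀ w : V, s • w = w → r • (y + w) = s • (y + w) := by
    intro w hw
    have e : y + w - s • (y + w) = yr - r • yr := by rw [smul_add, hw, ← hy]; abel
    have := hr.rule D hyr (v := y + w) (h := s) (by rw [← e]; abel)
    rw [← e] at this
    exact sub_right_injective this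
  have k0 := key 0 (smul_zero s)
  rw [add_zero] at k0
  refine hs.eq_of (fun w hw => ?_) k0 hys
  have h1 := key w hw
  rw [smul_add, smul_add, k0, show s • w = w from hw] at h1
  exact add_left_cancel h1

theorem U_inf_U (D : Data H V) (hr : Max V r) (hs : Max V s) (hne : r ≠ s) :
    (U r : AddSubgroup V) ⊓ U s = ⊥ := by
  rw [eq_bot_iff]
  rintro d ⟨hd, hd'⟩
  by_contra h0
  exact hne (hr.eq_of_U D hs hd hd' fun h => h0 (by rw [h]; exact zero_mem _))

theorem U_le_fix_of_comm (D : Data H V) (hr : Max V r) (hs : Max V s) (hne : r ≠ s)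
    (hc : r * s = s * r) : (U r : AddSubgroup V) ≤ fix s := by
  intro d hd
  have h1 : d - s • d ∈ (U r : AddSubgroup V) := by
    refine sub_mem hd ?_
    obtain ⟨y, rfl⟩ := exists_of_mem_U hd
    rw [smul_sub, ← mul_smul s r, ← hc, mul_smul]
    exact sub_mem_U r _
  have h2 : d - s • d ∈ (U r : AddSubgroup V) ⊓ U s := ⟨h1, sub_mem_U s d⟩
  rw [hr.U_inf_U D hs hne, AddSubgroup.mem_bot, sub_eq_zero] at h2
  exact h2.symm

theorem smul_fix_mem {g : H} (hc : g * r = r * g) {w : V} (hw : r • w = w) : r • g • w = g • w := by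
  rw [← mul_smul, ← hc, mul_smul, hw]

theorem conj_max (hr : Max V r) (g : H) : Max V (g * r * g⁻¹) := by
  refine ⟨fun h => hr.1 (by simpa using h), fun f hf hle v hv => ?_⟩
  have h1 : (fix r : AddSubgroup V) ≤ fix (g⁻¹ * f * g) := fun w hw => by
    rw [mem_fix, mul_smul, mul_smul, inv_smul_eq_iff]
    refine hle ?_
    rw [mem_fix, mul_smul, mul_smul, inv_smul_smul, show r • w = w from hw]
  have h2 := hr.2 _ (fun h => hf (by
    have : f = g * (g⁻¹ * f * g) * g⁻¹ := by group
    rw [this, h]; simp)) h1 (x := g⁻¹ • v) (by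
    rw [mem_fix, mul_smul, mul_smul, smul_inv_smul, show f • v = v from hv])
  rw [mem_fix] at h2
  rw [mem_fix, mul_smul, mul_smul, h2, smul_inv_smul]

theorem smul_mem_U_conj (g : H) {d : V} (hd : d ∈ (U r : AddSubgroup V)) :
    g • d ∈ (U (g * r * g⁻¹) : AddSubgroup V) := by
  obtain ⟨y, rfl⟩ := exists_of_mem_U hd
  refine ⟨g • y, ?_⟩
  rw [mv_apply, mul_smul, mul_smul, inv_smul_smul, smul_sub]

end Max

/-- A non-commuting pair. -/
structure NC (V : Type*) [AddCommGroup V] [DistribMulAction H V] (a b : H) : Prop where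
  ha : Max V a
  hb : Max V b
  ne : a * b ≠ b * a

namespace NC

variable {a b : H}

theorem symm (h : NC V a b) : NC V b a := ⟨h.hb, h.ha, fun e => h.ne e.symm⟩

theorem ne' (h : NC V a b) : a ≠ b := fun e => h.ne (by rw [e])

theorem U_inf_fix (D : Data H V) (h : NC V a b) : (U a : AddSubgroup V) ⊓ fix b = ⊥ := by
  rw [eq_bot_iff]
  rintro d ⟨hd, hd'⟩
  by_contra h0
  refine h.ne (h.ha.stab_comm D hd (fun e => h0 (by rw [e]; exact zero_mem _)) hd').symm

theorem not_fix (D : Data H V) (h : NC V a b) {d : V} (hd : d ∈ (U a : AddSubgroup V))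
    (hd0 : d ≠ 0) : b • d ≠ d := fun e => h.ne (h.ha.stab_comm D hd hd0 e).symm

theorem card_le (D : Data H V) (h : NC V a b) :
    Nat.card (U a : AddSubgroup V) ≤ Nat.card (U b : AddSubgroup V) := by
  haveI := D.finV
  have h1 := card_mul_le (h.U_inf_fix D) (le_top (a := (U a : AddSubgroup V)))
    (le_top (a := (fix b : AddSubgroup V)))
  rw [AddSubgroup.card_top, ← card_U_mul (V := V) b] at h1
  exact Nat.le_of_mul_le_mul_right h1 Nat.card_pos

theorem card_eq (D : Data H V) (h : NC V a b) :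
    Nat.card (U a : AddSubgroup V) = Nat.card (U b : AddSubgroup V) :=
  le_antisymm (h.card_le D) (h.symm.card_le D)

end NC

end CfsgLib.BinAff
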