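import Cfsg.Agent.Lib.BinaryAffine.Sweep

/-!
The semiregular abelian subgroup generated by products of two elements with maximal fixed spaces.
-/

set_option autoImplicit false
set_option linter.unusedSectionVars false
set_option linter.style.haveILetI false

namespace CfsgLib.BinAff

variable {H V : Type*} [Group H] [AddCommGroup V] [DistribMulAction H V]

/-- The subgroup generated by products of two elements with maximal fixed spaces. -/
def rot (V : Type*) [AddCommGroup V] [DistribMulAction H V] : Subgroup H :=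
  Subgroup.closure {g | ∃ a b : H, Max V a ∧ Max V b ∧ a * b = g}

theorem mul_mem_rot {a b : H} (ha : Max V a) (hb : Max V b) : a * b ∈ rot (H := H) V :=
  Subgroup.subset_closure ⟨a, b, ha, hb, rfl⟩

namespace NC

variable {r s : H}

theorem exists_fixed (D : Data H V) (h : NC V r s) {c : H} (hc : Max V c) :
    ∃ x : V, x ≠ 0 ∧ c • x = x := by
  haveI := D.finV
  have h1 := h.card_M_inf_fix D hc (h.U_le D c)
  have hne : M V r s ⊓ fix c ≠ ⊥ := by
    rw [Ne, ← AddSubgroup.card_eq_one, h1]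
    exact (one_lt_card_U (V := V) D h.ha.1).ne'
  obtain ⟨x, hx, hx0⟩ := exists_ne_zero hne
  exact ⟨x, hx0, hx.2⟩

theorem eq_of_fixed (D : Data H V) (h : NC V r s) {c f : H} (hc : Max V c) {x : V} (hx : x ≠ 0)
    (hcx : c • x = x) (hfx : f • x = x) : f = 1 ∨ f = c := by
  obtain ⟨c₀, -, -, hall⟩ := h.stab D hx
  rcases hall f hfx with e | e
  · exact Or.inl e
  · exact Or.inr (e.trans ((hall c hcx).resolve_left hc.1).symm)

theorem exists_partner' (D : Data H V) (h : NC V r s) {c : H} (hc : Max V c) :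
    ∃ d : H, NC V c d := by
  obtain ⟨d, hd, -⟩ := h.exists_nc_member D hc (h.U_le D c)
  exact ⟨d, hd⟩

theorem product_neg (D : Data H V) (h : NC V r s) {a b : H} (ha : Max V a) (hb : Max V b)
    (hne : a ≠ b) (hc : a * b = b * a) (v : V) : (a * b) • v = -v := by
  have hv : v ∈ (U a : AddSubgroup V) ⊔ U b := by
    rw [h.span_eq D ha hb hne (h.U_le D a) (h.U_le D b), h.M_eq_top D]
    trivial
  obtain ⟨d, hd, e, he, rfl⟩ := AddSubgroup.mem_sup.1 hv
  have h1 : b • d = d := ha.U_le_fix_of_comm D hb hne hc hd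
  have h2 : a • e = e := hb.U_le_fix_of_comm D ha (Ne.symm hne) hc.symm he
  rw [mul_smul, smul_add, h1, hb.smul_U D he, smul_add, ha.smul_U D hd, smul_neg, h2, neg_add]

theorem inverts_pair (D : Data H V) (h : NC V r s) {a b c : H} (ha : Max V a) (hb : Max V b)
    (hc : Max V c) : c * (a * b) * c = (a * b)⁻¹ := by
  by_cases hcomm : a * b = b * a
  · by_cases hne : a = b
    · subst hne
      rw [ha.mul_self D, mul_one, inv_one, hc.mul_self D]
    · rw [mul_inv_rev, ha.inv_eq D, hb.inv_eq D, ← hcomm]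
      have hneg := h.product_neg D ha hb hne hcomm
      refine (inv_mul_eq_one.1 (D.faithful ((a * b)⁻¹ * (c * (a * b) * c)) fun v => ?_)).symm
      rw [mul_smul, inv_smul_eq_iff, mul_smul, mul_smul c, hneg, hneg, smul_neg,
        hc.smul_smul_self D]
  · have hab : NC V a b := ⟨ha, hb, hcomm⟩
    obtain ⟨x, hx, hcx⟩ := h.exists_fixed D hc
    have hxZ : x ∉ Z V a b := by
      rw [hab.Z_eq_bot D, AddSubgroup.mem_bot]
      exact hx
    obtain ⟨k, hk, -, hkx, -, hkx'⟩ := hab.cover D hxZ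
    obtain rfl : k = c := (h.eq_of_fixed D hc hx hcx hkx).resolve_left hk
    set g := a * b with hg
    rcases h.eq_of_fixed D hc hx hcx hkx' with e | e
    · exfalso
      have e1 : k = (g * g)⁻¹ := by
        calc k = g⁻¹ * (g * k * g) * g⁻¹ := by group
          _ = (g * g)⁻¹ := by rw [e]; group
      have h1 : (g * g) • x = x := by
        have := fix_inv (show k • x = x from hcx)
        rwa [e1, inv_inv] at this
      apply hxZ
      rw [← hab.fix_sq D]
      exact h1
    · calc k * g * k = g⁻¹ * (g * k * g) * k := by group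
        _ = g⁻¹ := by rw [e, mul_assoc, hc.mul_self D, mul_one]

theorem rot_comm (D : Data H V) (h : NC V r s) {x y : H} (hx : x ∈ rot (H := H) V)
    (hy : y ∈ rot (H := H) V) : x * y = y * x := by
  let S : Set H := {g | ∃ a b : H, Max V a ∧ Max V b ∧ a * b = g}
  have key : ∀ p ∈ S, ∀ q ∈ S, p * q = q * p := by
    rintro _ ⟨a, b, ha, hb, rfl⟩ _ ⟨c, d, hc, hd, rfl⟩
    have h1 : b * (c * d) * b = (c * d)⁻¹ := h.inverts_pair D hc hd hb
    have h2 : a * (c * d) * a = (c * d)⁻¹ := h.inverts_pair D hc hd ha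
    have h3 : a * (c * d)⁻¹ * a = c * d := by
      have := congrArg (·⁻¹) h2
      simp only [mul_inv_rev, ha.inv_eq D, inv_inv] at this
      rw [mul_assoc]
      simpa [mul_inv_rev] using this
    calc a * b * (c * d) = a * (b * (c * d) * b) * a * (a⁻¹ * b⁻¹) := by group
      _ = c * d * (a⁻¹ * b⁻¹) := by rw [h1, h3]
      _ = c * d * (a * b) := by rw [ha.inv_eq D, hb.inv_eq D]
  haveI : IsMulCommutative ↥(rot (H := H) V) := Subgroup.isMulCommutative_closure key
  exact setLike_mul_comm hx hy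

theorem inverts (D : Data H V) (h : NC V r s) {c x : H} (hc : Max V c)
    (hx : x ∈ rot (H := H) V) : c * x * c = x⁻¹ := by
  induction hx using Subgroup.closure_induction with
  | mem g hg =>
    obtain ⟨a, b, ha, hb, rfl⟩ := hg
    exact h.inverts_pair D ha hb hc
  | one => rw [mul_one, inv_one, hc.mul_self D]
  | mul p q hp hq ep eq' =>
    calc c * (p * q) * c = (c * p * c) * (c * q * c) := by
          rw [show c * p * c * (c * q * c) = c * p * (c * c) * q * c by group, hc.mul_self D,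
            mul_one, ← mul_assoc c p q]
      _ = (p * q)⁻¹ := by
          rw [ep, eq', ← mul_inv_rev, h.rot_comm D hq hp]
  | inv p _ ep =>
    have := congrArg (·⁻¹) ep
    simp only [mul_inv_rev, hc.inv_eq D] at this
    rw [← mul_assoc] at this
    exact this

theorem max_not_mem_rot (D : Data H V) (h : NC V r s) {c : H} (hc : Max V c) :
    c ∉ rot (H := H) V := by
  intro hmem
  obtain ⟨d, hd⟩ := h.exists_partner' D hc
  refine hd.ne ?_
  have h1 := h.inverts D hd.hb hmem
  rw [hc.inv_eq D] at h1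
  calc c * d = d * c * d * d := by rw [h1]
    _ = d * c := by rw [mul_assoc (d * c), hd.hb.mul_self D, mul_one]

theorem semiregular (D : Data H V) (h : NC V r s) {g : H} (hg : g ∈ rot (H := H) V) {x : V}
    (hx : x ≠ 0) (hgx : g • x = x) : g = 1 := by
  obtain ⟨c, hc, -, hall⟩ := h.stab D hx
  exact (hall g hgx).resolve_right fun e => h.max_not_mem_rot D hc (e ▸ hg)

theorem max_eq (D : Data H V) (h : NC V r s) {c : H} (hc : Max V c) :
    ∃ a ∈ rot (H := H) V, c = a * r :=
  ⟨c * r, mul_mem_rot hc h.ha, by rw [mul_assoc, h.ha.mul_self D, mul_one]⟩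

theorem neg_mem_rot (D : Data H V) (h : NC V r s) {f : H} (hf : ∀ v : V, f • v = -v) :
    f ∈ rot (H := H) V := by
  rcases D.two with h2 | h2
  · rw [D.faithful f fun v => by rw [hf v]; exact neg_eq_of_add_eq_zero_left (h2 v)]
    exact one_mem _
  · obtain ⟨g, hg, hcomm, hgU, -⟩ := h.exists_perp D h.ha le_sup_left
    have hne : r ≠ g := by
      rintro rfl
      obtain ⟨d, hd, hd0⟩ := exists_ne_zero (U_ne_bot (V := V) D hg.1)
      have h3 : d ∈ (U r : AddSubgroup V) ⊓ fix r := ⟨hd, (hgU ▸ hd).2⟩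
      rw [hg.disj_of_odd D h2] at h3
      exact hd0 (AddSubgroup.mem_bot.1 h3)
    have e : f = r * g := (inv_mul_eq_one.1 (D.faithful (f⁻¹ * (r * g)) fun v => by
      rw [mul_smul, inv_smul_eq_iff, hf, h.product_neg D h.ha hg hne hcomm.symm]))
    rw [e]
    exact mul_mem_rot h.ha hg

theorem cover_group (D : Data H V) (h : NC V r s) (f : H) :
    f ∈ rot (H := H) V ∨ ∃ a ∈ rot (H := H) V, f = a * r := by
  by_cases hneg : ∀ v : V, f • v = -v
  · exact Or.inl (h.neg_mem_rot D hneg)
  push Not at hneg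
  obtain ⟨x, hx⟩ := hneg
  have hx0 : x ≠ 0 := fun e => hx (by rw [e, smul_zero, neg_zero])
  obtain ⟨j, hju, hjv, -⟩ := swapEl D f x
  have hsum : x + f • x ≠ 0 := fun e => hx (eq_neg_of_add_eq_zero_right e)
  have hjsum : j • (x + f • x) = x + f • x := by rw [smul_add, hju, hjv, add_comm]
  obtain ⟨c, hc, -, hall⟩ := h.stab D hsum
  obtain ⟨c', hc', -, hall'⟩ := h.stab D hx0
  have hfx : (j⁻¹ * f) • x = x := by rw [mul_smul, inv_smul_eq_iff, hju]
  rcases hall j hjsum with ej | ej <;> rcases hall' (j⁻¹ * f) hfx with ef | ef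
  · rw [← inv_mul_eq_one.1 ef, ej]; exact Or.inl (one_mem _)
  · rw [ej, inv_one, one_mul] at ef
    exact Or.inr (ef ▸ h.max_eq D hc')
  · rw [← inv_mul_eq_one.1 ef, ej]
    exact Or.inr (h.max_eq D hc)
  · left
    rw [show f = j * (j⁻¹ * f) by group, ef, ej]
    exact mul_mem_rot hc hc'

theorem exists_fixer (D : Data H V) (h : NC V r s) {x : V} (hx : x ≠ 0) :
    ∃ a ∈ rot (H := H) V, (a * r) • x = x := by
  obtain ⟨c, hc, hcx, -⟩ := h.stab D hx
  obtain ⟨a, ha, rfl⟩ := h.max_eq D hc
  exact ⟨a, ha, hcx⟩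

theorem rot_irr (D : Data H V) (h : NC V r s) (P : AddSubgroup V) :
    (∀ g ∈ rot (H := H) V, ∀ v ∈ P, g • v ∈ P) → P ≠ ⊥ → P = ⊤ := by
  classical
  haveI := D.finV
  induction hn : Nat.card P using Nat.strong_induction_on generalizing P with
  | _ n ih =>
  intro hP hne
  obtain ⟨x, hx, hx0⟩ := exists_ne_zero hne
  obtain ⟨a, ha, hax⟩ := h.exists_fixer D hx0
  have hrx : r • x ∈ P := by
    have h1 := hP a⁻¹ (inv_mem ha) x hx
    rw [mul_smul] at hax
    rwa [show a⁻¹ • x = r • x by rw [inv_smul_eq_iff, hax]] at h1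
  let P' : AddSubgroup V := P ⊓ P.comap (DistribSMul.toAddMonoidHom V r)
  have memP' : ∀ {v : V}, v ∈ P' ↔ v ∈ P ∧ r • v ∈ P := Iff.rfl
  have hP' : ∀ g ∈ rot (H := H) V, ∀ v ∈ P', g • v ∈ P' := by
    intro g hg v hv
    refine memP'.2 ⟨hP g hg v hv.1, ?_⟩
    have h1 : r * g = g⁻¹ * r := by
      rw [← h.inverts D h.ha hg, mul_assoc _ r r, h.ha.mul_self D, mul_one]
    rw [← mul_smul, h1, mul_smul]
    exact hP _ (inv_mem hg) _ hv.2
  have hne' : P' ≠ ⊥ := fun e => hx0 (by
    have h3 : x ∈ P' := memP'.2 ⟨hx, hrx⟩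
    rw [e] at h3
    exact AddSubgroup.mem_bot.1 h3)
  by_cases hrP : ∀ v ∈ P, r • v ∈ P
  · refine (D.irr P fun f v hv => ?_).resolve_left hne
    rcases h.cover_group D f with hf | ⟨a', ha', rfl⟩
    · exact hP f hf v hv
    · rw [mul_smul]
      exact hP a' ha' _ (hrP v hv)
  · push Not at hrP
    obtain ⟨v, hv, hrv⟩ := hrP
    have hlt : Nat.card P' < n := by
      subst hn
      rcases lt_or_eq_of_le (AddSubgroup.card_le_of_le (inf_le_left : P' ≤ P)) with h4 | h4
      · exact h4
      · have hv' : v ∈ P' := (eq_of_le_of_card_le (inf_le_left : P' ≤ P) h4.ge).symm.le hv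
        exact absurd hv'.2 hrv
    exact top_unique ((ih _ hlt P' rfl hP' hne').ge.trans inf_le_left)

end NC

end CfsgLib.BinAff
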