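import Cfsg.Agent.Lib.BinaryAffine.Cyclic

/-!
The field spanned by the semiregular subgroup, and the classification.
-/

set_option autoImplicit false
set_option linter.unusedSectionVars false
set_option linter.style.haveILetI false

namespace CfsgLib.BinAff

universe u v

variable {H : Type u} {V : Type v} [Group H] [AddCommGroup V] [DistribMulAction H V]

theorem NC.field_model {r s : H} (D : Data H V) (h : NC V r s) :
    ∃ (E : Type v) (_ : Field E) (σ : E ≃+* E) (e : V ≃+ E),
      (∀ x, σ (σ x) = x) ∧ σ ≠ RingEquiv.refl E ∧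
      (∀ f : H, ∃ a, a * σ a = 1 ∧
        ((∀ x, e (f • x) = a * e x) ∨ ∀ x, e (f • x) = a * σ (e x))) ∧
      (∀ a, a * σ a = 1 →
        (∃ f : H, ∀ x, e (f • x) = a * e x) ∧ ∃ f : H, ∀ x, e (f • x) = a * σ (e x)) := by
  classical
  haveI := D.finV
  let ρ : H →* AddMonoid.End V := DistribMulAction.toAddMonoidEnd H V
  let R : Subring (AddMonoid.End V) := Subring.closure (ρ '' (rot (H := H) V : Set H))
  obtain ⟨v₁, hv₁0, hv₁⟩ := h.exists_fixed D h.ha
  have hρ : ∀ (g : H) (w : V), ρ g w = g • w := fun g w => rfl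
  have hρR : ∀ g ∈ rot (H := H) V, ρ g ∈ R := fun g hg => Subring.subset_closure ⟨g, hg, rfl⟩
  have hcomm : ∀ g ∈ rot (H := H) V, ∀ φ ∈ R, ∀ w : V, φ (g • w) = g • φ w := by
    intro g hg φ hφ
    induction hφ using Subring.closure_induction with
    | mem φ hφ =>
      obtain ⟨g', hg', rfl⟩ := hφ
      intro w
      rw [hρ, hρ, ← mul_smul, ← mul_smul, h.rot_comm D hg' hg]
    | zero => intro w; exact (smul_zero g).symm
    | one => intro w; rfl
    | add x y _ _ hx hy =>
      intro w
      show x (g • w) + y (g • w) = g • (x w + y w)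
      rw [hx, hy, smul_add]
    | neg x _ hx =>
      intro w
      show -(x (g • w)) = g • -(x w)
      rw [hx, smul_neg]
    | mul x y _ _ hx hy =>
      intro w
      show x (y (g • w)) = g • x (y w)
      rw [hy, hx]
  have hzero : ∀ φ ∈ R, ∀ w : V, w ≠ 0 → φ w = 0 → φ = 0 := by
    intro φ hφ w hw hφw
    have h1 : AddMonoidHom.ker (φ : V →+ V) = ⊤ := by
      refine h.rot_irr D _ (fun g hg x hx => ?_) fun e => hw ?_
      · show φ (g • x) = 0
        rw [hcomm g hg φ hφ, show φ x = 0 from hx, smul_zero]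
      · have h2 : w ∈ AddMonoidHom.ker (φ : V →+ V) := hφw
        rw [e] at h2
        exact AddSubgroup.mem_bot.1 h2
    refine AddMonoidHom.ext fun x => ?_
    have h2 : x ∈ AddMonoidHom.ker (φ : V →+ V) := by rw [h1]; trivial
    exact h2
  let ev : R →+ V := AddMonoidHom.mk' (fun φ => (φ : AddMonoid.End V) v₁) fun _ _ => rfl
  have hev : Function.Bijective ev := by
    refine ⟨(injective_iff_map_eq_zero ev).2 fun φ hφ =>
      Subtype.ext (hzero φ.1 φ.2 v₁ hv₁0 hφ), fun w => ?_⟩
    have h1 : ev.range = ⊤ := by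
      refine h.rot_irr D _ ?_ fun e => hv₁0 ?_
      · rintro g hg _ ⟨φ, rfl⟩
        exact ⟨⟨ρ g, hρR g hg⟩ * φ, rfl⟩
      · have h2 : v₁ ∈ ev.range := ⟨1, rfl⟩
        rw [e] at h2
        exact AddSubgroup.mem_bot.1 h2
    have h2 : w ∈ ev.range := by rw [h1]; trivial
    exact h2
  let ev' : R ≃+ V := AddEquiv.ofBijective ev hev
  haveI : Finite R := Finite.of_injective ev hev.1
  haveI : Nontrivial R := ⟨0, 1, fun e => hv₁0 (by
    have := congrArg (fun φ : R => (φ : AddMonoid.End V) v₁) e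
    exact this.symm)⟩
  haveI : NoZeroDivisors R := ⟨fun {x y} hxy => by
    refine or_iff_not_imp_right.2 fun hy => Subtype.ext (hzero x.1 x.2 (ev y) ?_ ?_)
    · exact fun e => hy (hev.1 (e.trans (map_zero ev).symm))
    · exact congrArg (fun φ : R => (φ : AddMonoid.End V) v₁) hxy⟩
  haveI : IsDomain R := NoZeroDivisors.to_isDomain R
  letI : Field R := (Finite.isDomain_to_isField R).toField
  have hrr : ∀ w : V, r • r • w = w := h.ha.smul_smul_self D
  have hconj : ∀ φ ∈ R, ρ r * φ * ρ r ∈ R := by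
    intro φ hφ
    induction hφ using Subring.closure_induction with
    | mem φ hφ =>
      obtain ⟨g, hg, rfl⟩ := hφ
      rw [← map_mul, ← map_mul, h.inverts D h.ha hg]
      exact hρR _ (inv_mem hg)
    | zero => rw [mul_zero, zero_mul]; exact zero_mem R
    | one => rw [mul_one, ← map_mul, h.ha.mul_self D, map_one]; exact one_mem R
    | add x y _ _ hx hy => rw [mul_add, add_mul]; exact add_mem hx hy
    | neg x _ hx => rw [mul_neg, neg_mul]; exact neg_mem hx
    | mul x y _ _ hx hy =>
      rw [show ρ r * (x * y) * ρ r = (ρ r * x * ρ r) * (ρ r * y * ρ r) from by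
        refine AddMonoidHom.ext fun w => ?_
        show r • x (y (r • w)) = r • x (r • r • y (r • w))
        rw [hrr]]
      exact mul_mem hx hy
  let σ : R ≃+* R :=
    { toFun := fun φ => ⟨ρ r * φ.1 * ρ r, hconj φ.1 φ.2⟩
      invFun := fun φ => ⟨ρ r * φ.1 * ρ r, hconj φ.1 φ.2⟩
      left_inv := fun φ => Subtype.ext (AddMonoidHom.ext fun w => by
        show r • r • φ.1 (r • r • w) = φ.1 w
        rw [hrr, hrr])
      right_inv := fun φ => Subtype.ext (AddMonoidHom.ext fun w => by
        show r • r • φ.1 (r • r • w) = φ.1 w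
        rw [hrr, hrr])
      map_mul' := fun x y => Subtype.ext (AddMonoidHom.ext fun w => by
        show r • x.1 (y.1 (r • w)) = r • x.1 (r • r • y.1 (r • w))
        rw [hrr])
      map_add' := fun x y => Subtype.ext (AddMonoidHom.ext fun w => by
        show r • (x.1 (r • w) + y.1 (r • w)) = r • x.1 (r • w) + r • y.1 (r • w)
        rw [smul_add]) }
  have hσev : ∀ φ : R, ev (σ φ) = r • ev φ := fun φ => by
    show r • φ.1 (r • v₁) = r • φ.1 v₁
    rw [hv₁]
  have hmulev : ∀ (g : H) (hg : g ∈ rot (H := H) V) (φ : R),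
      ev (⟨ρ g, hρR g hg⟩ * φ) = g • ev φ := fun g hg φ => rfl
  let e : V ≃+ R := ev'.symm
  have hee : ∀ w, ev (e w) = w := fun w => ev'.apply_symm_apply w
  have her : ∀ w, e (r • w) = σ (e w) := fun w => hev.1 (by rw [hee, hσev, hee])
  have hec : ∀ (g : H) (hg : g ∈ rot (H := H) V) (w : V), e (g • w) = ⟨ρ g, hρR g hg⟩ * e w :=
    fun g hg w => hev.1 (by rw [hee, hmulev g hg, hee])
  have hnorm : ∀ (g : H) (hg : g ∈ rot (H := H) V),
      (⟨ρ g, hρR g hg⟩ : R) * σ ⟨ρ g, hρR g hg⟩ = 1 := by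
    intro g hg
    refine Subtype.ext (AddMonoidHom.ext fun w => ?_)
    show g • r • g • r • w = w
    rw [← mul_smul r, ← mul_smul (r * g), h.inverts D h.ha hg, smul_inv_smul]
  refine ⟨R, inferInstance, σ, e, fun x => σ.left_inv x, fun hσ => h.ha.1 (D.faithful r fun w => ?_),
    fun f => ?_, fun a ha => ?_⟩
  · exact e.injective (by rw [her, hσ]; rfl)
  · rcases h.cover_group D f with hf | ⟨g, hg, rfl⟩
    · exact ⟨_, hnorm f hf, Or.inl (hec f hf)⟩
    · exact ⟨_, hnorm g hg, Or.inr fun w => by rw [mul_smul, hec g hg, her]⟩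
  · suffices hex : ∃ (g : H) (hg : g ∈ rot (H := H) V), (⟨ρ g, hρR g hg⟩ : R) = a by
      obtain ⟨g, hg, rfl⟩ := hex
      exact ⟨⟨g, hec g hg⟩, g * r, fun w => by rw [mul_smul, hec g hg, her]⟩
    -- a nonzero solution of `a * σ x = x`
    obtain ⟨x, hx0, hx⟩ : ∃ x : R, x ≠ 0 ∧ a * σ x = x := by
      by_contra hno
      push Not at hno
      have hall : ∀ z : R, z + a * σ z = 0 := fun z => by
        by_contra hne
        refine hno _ hne ?_
        rw [map_add, map_mul, show σ (σ z) = z from σ.left_inv z, mul_add, ← mul_assoc, ha,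
          one_mul, add_comm]
      have h1 := hall 1
      rw [map_one, mul_one] at h1
      refine h.ha.1 (D.faithful r fun w => e.injective ?_)
      have h2 := hall (e w)
      rw [eq_neg_of_add_eq_zero_right h1, neg_mul, one_mul, add_neg_eq_zero] at h2
      rw [her, ← h2]
    obtain ⟨g, hg, hgx⟩ := h.exists_fixer D (x := ev x) fun e' => hx0 (hev.1 (e'.trans (map_zero ev).symm))
    refine ⟨g, hg, ?_⟩
    have h3 : (⟨ρ g, hρR g hg⟩ : R) * σ x = x := hev.1 (by rw [hmulev g hg, hσev, ← mul_smul, hgx])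
    have hσx : σ x ≠ 0 := fun e' => hx0 (σ.injective (e'.trans (map_zero σ).symm))
    exact mul_right_cancel₀ hσx (h3.trans hx.symm)

/-- A group with a free point is trivial or acts as `-1` on a module of prime order. -/
theorem small (D : Data H V) {x : V} (hx : x ≠ 0) (hfree : ∀ h : H, h • x = x → h = 1) :
    Nat.card H ≤ 2 ∧ (Nat.card V).Prime := by
  classical
  haveI := D.finH
  haveI := D.finV
  have hsq : ∀ h : H, h * h = 1 := by
    intro h
    obtain ⟨j, hju, hjv, -⟩ := swapEl D h x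
    have e : j = h :=
      (inv_mul_eq_one.1 (hfree (h⁻¹ * j) (by rw [mul_smul, hju, inv_smul_smul]))).symm
    rw [e] at hjv
    exact hfree _ (by rw [mul_smul, hjv])
  have hinv : ∀ h : H, h⁻¹ = h := fun h => inv_eq_of_mul_eq_one_right (hsq h)
  have hcomm : ∀ g h : H, g * h = h * g := fun g h => by
    have := hinv (g * h)
    rw [mul_inv_rev, hinv, hinv] at this
    exact this.symm
  have hneg : ∀ h : H, h ≠ 1 → ∀ w : V, h • w = -w := by
    intro h hh w
    rcases D.irr (fix h) (fun g w hw => by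
        show h • g • w = g • w
        rw [← mul_smul, hcomm, mul_smul, show h • w = w from hw]) with e | e
    · have h1 : w + h • w ∈ (fix h : AddSubgroup V) := by
        show h • (w + h • w) = w + h • w
        rw [smul_add, ← mul_smul h h, hsq, one_smul, add_comm]
      rw [e, AddSubgroup.mem_bot] at h1
      exact eq_neg_of_add_eq_zero_right h1
    · refine absurd (D.faithful h fun y => ?_) hh
      have h1 : y ∈ (fix h : AddSubgroup V) := by rw [e]; trivial
      exact h1
  refine ⟨?_, ?_⟩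
  · have hinj : Function.Injective (fun h : H => decide (h = 1)) := by
      intro g h e
      simp only [decide_eq_decide] at e
      by_cases hg : g = 1
      · rw [hg, e.1 hg]
      · have hh : h ≠ 1 := fun h1 => hg (e.2 h1)
        exact inv_mul_eq_one.1 (D.faithful (g⁻¹ * h) fun w => by
          rw [mul_smul, inv_smul_eq_iff, hneg g hg, hneg h hh])
    simpa using Nat.card_le_card_of_injective _ hinj
  · haveI : IsSimpleAddGroup V :=
      { toNontrivial := ⟨⟨x, 0, hx⟩⟩
        eq_bot_or_eq_top_of_normal := fun P _ => D.irr P fun g w hw => by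
          by_cases hg : g = 1
          · rw [hg, one_smul]; exact hw
          · rw [hneg g hg]; exact neg_mem hw }
    exact IsSimpleAddGroup.prime_card

/-- The classification of binary irreducible linear groups. -/
theorem classify (D : Data H V) (hV : ∃ x : V, x ≠ 0) :
    (Nat.card H ≤ 2 ∧ (Nat.card V).Prime) ∨
    ∃ (F E : Type) (_ : Field F) (_ : Fintype F) (_ : Field E) (_ : Fintype E) (_ : Algebra F E)
      (e : V ≃+ E), Module.finrank F E = 2 ∧
      (∀ f : H, ∃ (a : E) (φ : E ≃ₐ[F] E),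
        Algebra.norm F a = 1 ∧ ∀ x, e (f • x) = a * φ (e x)) ∧
      ∀ (a : E) (φ : E ≃ₐ[F] E), Algebra.norm F a = 1 →
        ∃ f : H, ∀ x, e (f • x) = a * φ (e x) := by
  classical
  by_cases hfree : ∃ x : V, x ≠ 0 ∧ ∀ h : H, h • x = x → h = 1
  · obtain ⟨x, hx, hf⟩ := hfree
    exact Or.inl (small D hx hf)
  right
  push Not at hfree
  obtain ⟨r, s, h⟩ := exists_nc D (fun x hx => by
    obtain ⟨g, hg, hg1⟩ := hfree x hx
    exact ⟨g, hg1, hg⟩) hV
  obtain ⟨K, _, τ, e₀, hτ, hτne, hto, hfrom⟩ := h.field_model D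
  haveI := D.finV
  haveI : Finite K := Finite.of_equiv V e₀.toEquiv
  let sh : K ≃+* Shrink.{0} K := ((equivShrink.{0} K).symm.ringEquiv).symm
  let σ : Shrink.{0} K ≃+* Shrink.{0} K := (sh.symm.trans τ).trans sh
  have hσ : ∀ x, σ (σ x) = x := fun x => by simp [σ, hτ]
  have hσne : σ ≠ 1 := fun e => hτne (RingEquiv.ext fun x => sh.injective (by
    have := RingEquiv.congr_fun e (sh x)
    simpa [σ] using this))
  let Γ : Subgroup (Shrink.{0} K ≃+* Shrink.{0} K) := Subgroup.zpowers σ
  have hσσ : σ ^ 2 = 1 := RingEquiv.ext fun x => by rw [pow_two]; exact hσ x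
  have hΓ : ∀ g ∈ Γ, g = 1 ∨ g = σ := by
    intro g hg
    obtain ⟨k, rfl⟩ := Subgroup.mem_zpowers_iff.1 hg
    rcases Int.even_or_odd' k with ⟨m, rfl | rfl⟩
    · left; rw [zpow_mul, zpow_ofNat, hσσ, one_zpow]
    · right; rw [zpow_add, zpow_mul, zpow_ofNat, hσσ, one_zpow, one_mul, zpow_one]
  haveI : Finite (Shrink.{0} K ≃+* Shrink.{0} K) :=
    Finite.of_injective (fun g => (g : Shrink.{0} K → Shrink.{0} K)) DFunLike.coe_injective
  letI := Fintype.ofFinite Γ
  letI := Fintype.ofFinite (Shrink.{0} K)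
  let E := Shrink.{0} K
  let F := FixedPoints.subfield Γ E
  letI : Fintype F := Fintype.ofFinite F
  haveI : FaithfulSMul Γ E := ⟨fun {g g'} e => Subtype.ext (RingEquiv.ext e)⟩
  have hcard : Fintype.card Γ = 2 := by
    rw [← Nat.card_eq_fintype_card, Nat.card_zpowers]
    exact orderOf_eq_prime hσσ hσne
  have hfin : Module.finrank F E = 2 := by
    rw [FixedPoints.finrank_eq_card Γ E, hcard]
  have hnorm : ∀ a : E, Algebra.norm F a = 1 ↔ a * σ a = 1 := by
    intro a
    haveI : IsGalois F E := ⟨⟩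
    have h1 := Algebra.norm_eq_prod_automorphisms F a
    rw [← (Equiv.ofBijective _ (FixedPoints.toAlgAut_bijective Γ E)).prod_comp] at h1
    have huniv : (Finset.univ : Finset Γ) = {1, ⟨σ, Subgroup.mem_zpowers σ⟩} :=
      (Finset.eq_univ_iff_forall.2 fun g => by
        rcases hΓ g g.2 with e | e
        · exact Finset.mem_insert.2 (Or.inl (Subtype.ext e))
        · exact Finset.mem_insert.2 (Or.inr (Finset.mem_singleton.2 (Subtype.ext e)))).symm
    rw [huniv, Finset.prod_pair (fun e => hσne (congrArg Subtype.val e).symm)] at h1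
    have h2 : algebraMap F E (Algebra.norm F a) = a * σ a := h1
    rw [← h2]
    exact ((map_eq_one_iff _ (algebraMap F E).injective)).symm
  refine ⟨F, E, inferInstance, inferInstance, inferInstance, inferInstance, inferInstance,
    e₀.trans sh.toAddEquiv, hfin, fun f => ?_, fun a φ ha => ?_⟩
  · obtain ⟨a, ha, hor⟩ := hto f
    refine ⟨sh a, ?_⟩
    have hn : Algebra.norm F (sh a) = 1 := (hnorm (sh a)).2 (by
      show sh a * sh (τ (sh.symm (sh a))) = 1
      rw [RingEquiv.symm_apply_apply, ← map_mul, ha, map_one])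
    rcases hor with e | e
    · refine ⟨AlgEquiv.refl, hn, fun x => ?_⟩
      show sh (e₀ (f • x)) = sh a * sh (e₀ x)
      rw [e, map_mul]
    · refine ⟨MulSemiringAction.toAlgAut Γ F E ⟨σ, Subgroup.mem_zpowers σ⟩, hn, fun x => ?_⟩
      show sh (e₀ (f • x)) = sh a * sh (τ (sh.symm (sh (e₀ x))))
      rw [e, RingEquiv.symm_apply_apply, map_mul]
  · rw [hnorm] at ha
    obtain ⟨⟨f₁, hf₁⟩, f₂, hf₂⟩ := hfrom (sh.symm a) (sh.injective (by
      rw [map_mul, RingEquiv.apply_symm_apply, map_one]
      exact ha))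
    obtain ⟨g, rfl⟩ := (FixedPoints.toAlgAut_bijective Γ E).2 φ
    rcases hΓ g g.2 with e | e
    · refine ⟨f₁, fun x => ?_⟩
      show sh (e₀ (f₁ • x)) = a * (g : E ≃+* E) (sh (e₀ x))
      rw [hf₁, map_mul, RingEquiv.apply_symm_apply, e]
      rfl
    · refine ⟨f₂, fun x => ?_⟩
      show sh (e₀ (f₂ • x)) = a * (g : E ≃+* E) (sh (e₀ x))
      rw [hf₂, map_mul, RingEquiv.apply_symm_apply, e]
      show _ = a * sh (τ (sh.symm (sh (e₀ x))))
      rw [RingEquiv.symm_apply_apply]

end CfsgLib.BinAff
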