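import Cfsg.Agent.Lib.BinaryAffine.Members

/-!
Two commuting elements with maximal fixed spaces cannot share a non-commuting neighbour
unless they lie in one plane.
-/

set_option autoImplicit false
set_option linter.unusedSectionVars false
set_option linter.style.haveILetI false

namespace CfsgLib.BinAff

variable {H V : Type*} [Group H] [AddCommGroup V] [DistribMulAction H V]

variable {a a' b : H}

/-- A member of the second plane other than `a'` does not commute with `a`. -/
theorem nc_of_member (D : Data H V) (hab : NC V a b) (hb : NC V a' b) (hne : a ≠ a')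
    (hc : a * a' = a' * a) (hout : ¬ (U a : AddSubgroup V) ≤ M V a' b) {c : H} (hcm : Max V c)
    (hU : (U c : AddSubgroup V) ≤ M V a' b) (hca' : c ≠ a') : NC V a c := by
  refine ⟨hab.ha, hcm, fun e => ?_⟩
  have hac : a ≠ c := fun e => hout (e ▸ hU)
  have hle : M V a' b ≤ fix a := by
    rw [← hb.span_eq D hb.ha hcm (Ne.symm hca') le_sup_left hU]
    exact sup_le (hb.ha.U_le_fix_of_comm D hab.ha (Ne.symm hne) hc.symm)
      (hcm.U_le_fix_of_comm D hab.ha (Ne.symm hac) e.symm)
  obtain ⟨d, hd, hd0⟩ := exists_ne_zero (U_ne_bot (V := V) D hab.hb.1)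
  exact hab.symm.not_fix D hd hd0 (hle (AddSubgroup.mem_sup_right hd))

/-- In characteristic two a translate of a point of a plane by a common fixed vector is not
conjugate to it. -/
theorem translate (D : Data H V) (h2 : ∀ v : V, v + v = 0) (h : NC V a b) {u z : V}
    (hu : u ∈ (U a : AddSubgroup V)) (hu0 : u ≠ 0) (hz : z ∈ Z V a b) {f : H}
    (hf : f • b • u = b • u + z) : z = 0 := by
  classical
  haveI := D.finV
  obtain ⟨j, hj, hS⟩ := D.swap (b • u) (b • u + z) ⟨f, hf⟩
  set x := b • u with hx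
  have hbu : b • u ≠ u := h.not_fix D hu hu0
  let A : Set V := {w | ∃ g : H, g • z = z ∧ w = x - g • x}
  set P : AddSubgroup V := AddSubgroup.closure A with hP
  have hPj : P ≤ fix j := by
    rw [hP, AddSubgroup.closure_le]
    rintro _ ⟨g, hg, rfl⟩
    refine hS _ ⟨g * f * g⁻¹, ?_⟩
    rw [show x - g • x - x = g • (-x) by rw [smul_neg]; abel, mul_smul, mul_smul, inv_smul_smul,
      smul_neg, hf, smul_neg, smul_add, hg]
    abel
  have hinv : ∀ g : H, g • z = z → ∀ w ∈ P, g • w ∈ P := by
    intro g hg w hw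
    induction hw using AddSubgroup.closure_induction with
    | mem w hw =>
      obtain ⟨g', hg', rfl⟩ := hw
      rw [smul_sub, show g • x - g • g' • x = (x - (g * g') • x) - (x - g • x) by
        rw [mul_smul]; abel]
      exact sub_mem (AddSubgroup.subset_closure ⟨g * g', fix_mul hg hg', rfl⟩)
        (AddSubgroup.subset_closure ⟨g, hg, rfl⟩)
    | zero => rw [smul_zero]; exact zero_mem _
    | add w w' _ _ h1 h2 => rw [smul_add]; exact add_mem h1 h2
    | neg w _ h1 => rw [smul_neg]; exact neg_mem h1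
  -- a point of the displacement space of `a`
  have hax : x - a • x ∈ (U a : AddSubgroup V) := sub_mem_U a x
  have hax0 : x - a • x ≠ 0 := by
    refine sub_ne_zero.2 (Ne.symm ?_)
    have h1 : a • (u - b • u) ≠ u - b • u :=
      h.symm.not_fix D (sub_mem_U b u) (sub_ne_zero.2 (Ne.symm hbu))
    intro e
    apply h1
    rw [smul_sub, e, h.ha.smul_U D hu, neg_eq_of_add_eq_zero_left (h2 u)]
  set S := P ⊓ U a with hS'
  have hd : x - a • x ∈ S := ⟨AddSubgroup.subset_closure ⟨a, hz.1, rfl⟩, hax⟩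
  -- the members of the plane other than `a`
  obtain ⟨y, hy, hy0⟩ := exists_ne_zero (U_ne_bot (V := V) D h.hb.1)
  have hyUa : y ∉ (U a : AddSubgroup V) := fun hya => hy0 (by
    have h3 : y ∈ (U a : AddSubgroup V) ⊓ U b := ⟨hya, hy⟩
    rw [h.U_inf_U D] at h3
    exact AddSubgroup.mem_bot.1 h3)
  have hex : ∀ w : (U a : AddSubgroup V), ∃ t : H, Max V t ∧ Z V a b ≤ fix t ∧
      (y + w : V) ∈ (U t : AddSubgroup V) ∧ (U t : AddSubgroup V) ≤ M V a b := fun w =>
    h.member_U D (add_mem (AddSubgroup.mem_sup_right hy) (AddSubgroup.mem_sup_left w.2))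
      (fun e => hyUa (by rw [eq_neg_of_add_eq_zero_left e]; exact neg_mem w.2))
  choose T hT hTZ hTy hTU using hex
  have hTa : ∀ w, T w ≠ a := fun w e => hyUa (by
    have := sub_mem (e ▸ hTy w) w.2
    rwa [add_sub_cancel_right] at this)
  have hTnc : ∀ w, NC V a (T w) := fun w => ⟨h.ha, hT w, fun e => by
    have hle : M V a b ≤ fix a := by
      rw [← h.span_eq D h.ha (hT w) (Ne.symm (hTa w)) le_sup_left (hTU w)]
      exact sup_le (h.ha.fix_of_two D h2) ((hT w).U_le_fix_of_comm D h.ha (hTa w) e.symm)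
    exact h.symm.not_fix D hy hy0 (hle (AddSubgroup.mem_sup_right hy))⟩
  have hTinj : Function.Injective T := by
    intro w w' e
    by_contra hne
    have h3 : (w : V) - w' ∈ (U a : AddSubgroup V) ⊓ U (T w) := ⟨AddSubgroup.sub_mem _ w.2 w'.2, by
      have := sub_mem (hTy w) (e ▸ hTy w')
      rwa [show y + (w : V) - (y + w') = w - w' by abel] at this⟩
    rw [h.ha.U_inf_U D (hT w) (Ne.symm (hTa w)), AddSubgroup.mem_bot, sub_eq_zero] at h3
    exact hne (Subtype.ext h3)
  set R := P ⊓ M V a b with hR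
  have hcard : Nat.card R ≤ Nat.card S * Nat.card S := by
    have h3 := AddSubgroup.card_mul_index ((mv a).comp R.subtype).ker
    rw [AddSubgroup.index_ker] at h3
    rw [← h3]
    refine Nat.mul_le_mul ?_ (AddSubgroup.card_le_of_le ?_)
    · refine Nat.card_le_card_of_injective (fun r => (⟨((r : R) : V), ?_⟩ : S)) ?_
      · obtain ⟨g, hg, hcomm, hUg, -⟩ := h.exists_perp D h.ha le_sup_left
        have hga : (U a : AddSubgroup V) = M V a b ⊓ fix a :=
          eq_of_le_of_card_le (le_inf le_sup_left (h.ha.fix_of_two D h2))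
            (h.card_M_inf_fix D h.ha le_sup_left).le
        refine ⟨(r : R).2.1, ?_⟩
        show ((r : R) : V) ∈ (U a : AddSubgroup V)
        rw [hga]
        exact ⟨(r : R).2.2,
          (sub_eq_zero.1 (show ((r : R) : V) - a • ((r : R) : V) = 0 from r.2)).symm⟩
      · intro r r' e
        exact Subtype.ext (Subtype.ext (congrArg Subtype.val e :))
    · rintro _ ⟨r, rfl⟩
      exact ⟨AddSubgroup.sub_mem P r.2.1 (hinv a hz.1 _ r.2.1), sub_mem_U a _⟩
  let φ : Option (↥(U a : AddSubgroup V) × {e : ↥S // e ≠ 0}) ⊕ {e : ↥S // e ≠ 0} → R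
    | Sum.inl none => 0
    | Sum.inl (some (w, e)) => ⟨(e.1 : V) - T w • (e.1 : V),
        AddSubgroup.sub_mem P e.1.2.1 (hinv (T w) (hTZ w hz) _ e.1.2.1), hTU w (sub_mem_U _ _)⟩
    | Sum.inr e => ⟨(e.1 : V), e.1.2.1, AddSubgroup.mem_sup_left e.1.2.2⟩
  have hne0 : ∀ (w : ↥(U a : AddSubgroup V)) (e : {e : ↥S // e ≠ 0}),
      (e.1 : V) - T w • (e.1 : V) ≠ 0 := fun w e => sub_ne_zero.2 (Ne.symm
    ((hTnc w).not_fix D e.1.2.2 fun e0 => e.2 (Subtype.ext e0)))
  have hφ : Function.Injective φ := by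
    intro p p' e
    have e' := congrArg Subtype.val e
    rcases p with (_ | ⟨w, c⟩) | c <;> rcases p' with (_ | ⟨w', c'⟩) | c' <;>
      simp only [φ, ZeroMemClass.coe_zero] at e'
    · rfl
    · exact absurd e'.symm (hne0 w' c')
    · exact absurd (Subtype.ext e'.symm) c'.2
    · exact absurd e' (hne0 w c)
    · have hw : T w = T w' := (hT w).eq_of_U D (hT w') (sub_mem_U _ _)
        (e' ▸ sub_mem_U _ _) (hne0 w c)
      obtain rfl := hTinj hw
      have h3 : (c.1 : V) - c'.1 ∈ (U a : AddSubgroup V) ⊓ fix (T w) := by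
        refine ⟨AddSubgroup.sub_mem _ c.1.2.2 c'.1.2.2, ?_⟩
        show T w • ((c.1 : V) - c'.1) = (c.1 : V) - c'.1
        rw [sub_eq_sub_iff_sub_eq_sub] at e'
        rw [smul_sub, ← e']
      rw [(hTnc w).U_inf_fix D, AddSubgroup.mem_bot, sub_eq_zero] at h3
      obtain rfl : c = c' := Subtype.ext (Subtype.ext h3)
      rfl
    · have h3 : (c.1 : V) - T w • (c.1 : V) ∈ (U a : AddSubgroup V) ⊓ U (T w) :=
        ⟨e' ▸ c'.1.2.2, sub_mem_U _ _⟩
      rw [h.ha.U_inf_U D (hT w) (Ne.symm (hTa w))] at h3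
      exact absurd (AddSubgroup.mem_bot.1 h3) (hne0 w c)
    · exact absurd (Subtype.ext e') c.2
    · have h3 : (c'.1 : V) - T w' • (c'.1 : V) ∈ (U a : AddSubgroup V) ⊓ U (T w') :=
        ⟨e' ▸ c.1.2.2, sub_mem_U _ _⟩
      rw [h.ha.U_inf_U D (hT w') (Ne.symm (hTa w'))] at h3
      exact absurd (AddSubgroup.mem_bot.1 h3) (hne0 w' c')
    · obtain rfl : c = c' := Subtype.ext (Subtype.ext e')
      rfl
  have hge := Nat.card_le_card_of_injective φ hφ
  rw [Nat.card_sum, Finite.card_option, Nat.card_prod] at hge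
  have hS1 : Nat.card {e : ↥S // e ≠ 0} + 1 = Nat.card S := by
    rw [← Finite.card_option]
    exact Nat.card_congr (Equiv.optionSubtypeNe (0 : ↥S))
  have hf2 : 1 < Nat.card S := by
    rw [AddSubgroup.one_lt_card_iff_ne_bot]
    intro hb
    rw [hb] at hd
    exact hax0 (AddSubgroup.mem_bot.1 hd)
  have hfull : Nat.card (U a : AddSubgroup V) ≤ Nat.card S := by
    have h4 : Nat.card S ≤ Nat.card (U a : AddSubgroup V) := AddSubgroup.card_le_of_le inf_le_right
    nlinarith
  have hUP : (U a : AddSubgroup V) ≤ P := by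
    rw [← eq_of_le_of_card_le (inf_le_right : S ≤ U a) hfull]
    exact inf_le_left
  have hxP : x ∈ P := by
    have h5 := sub_mem (hUP hu)
      (neg_mem (AddSubgroup.subset_closure (⟨b, hz.2, rfl⟩ : x - b • x ∈ A)))
    rw [hx, h.hb.smul_smul_self D, show u - -(b • u - u) = b • u by abel] at h5
    exact h5
  have h6 : j • x = x := hPj hxP
  rw [hj] at h6
  exact add_eq_left.1 h6

theorem kill_two (D : Data H V) (h2 : ∀ v : V, v + v = 0) (hab : NC V a b) (hb : NC V a' b)
    (hne : a ≠ a') (hc : a * a' = a' * a) (hout : ¬ (U a : AddSubgroup V) ≤ M V a' b) :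
    False := by
  haveI := D.finV
  have hq' : Nat.card (U a' : AddSubgroup V) = Nat.card (U a : AddSubgroup V) :=
    (hb.card_eq D).trans (hab.card_eq D).symm
  obtain ⟨y, hy, hy0⟩ := exists_ne_zero (U_ne_bot (V := V) D hab.hb.1)
  have hyU : y ∉ (U a' : AddSubgroup V) := fun hya => hy0 (by
    have h3 : y ∈ (U a' : AddSubgroup V) ⊓ U b := ⟨hya, hy⟩
    rw [hb.U_inf_U D] at h3
    exact AddSubgroup.mem_bot.1 h3)
  have hex : ∀ w : (U a' : AddSubgroup V), ∃ t : H, Max V t ∧ Z V a' b ≤ fix t ∧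
      (y + w : V) ∈ (U t : AddSubgroup V) ∧ (U t : AddSubgroup V) ≤ M V a' b := fun w =>
    hb.member_U D (add_mem (AddSubgroup.mem_sup_right hy) (AddSubgroup.mem_sup_left w.2))
      (fun e => hyU (by rw [eq_neg_of_add_eq_zero_left e]; exact neg_mem w.2))
  choose C hC hCZ hCy hCU using hex
  have hCne : ∀ w, C w ≠ a' := fun w e => hyU (by
    have := sub_mem (e ▸ hCy w) w.2
    rwa [add_sub_cancel_right] at this)
  have hCinj : Function.Injective C := by
    intro w w' e
    by_contra hne'
    have h3 : (w : V) - w' ∈ (U a' : AddSubgroup V) ⊓ U (C w) := ⟨AddSubgroup.sub_mem _ w.2 w'.2, by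
      have := sub_mem (hCy w) (e ▸ hCy w')
      rwa [show y + (w : V) - (y + w') = w - w' by abel] at this⟩
    rw [hb.ha.U_inf_U D (hC w) (Ne.symm (hCne w)), AddSubgroup.mem_bot, sub_eq_zero] at h3
    exact hne' (Subtype.ext h3)
  have hnc : ∀ w, NC V a (C w) := fun w =>
    nc_of_member D hab hb hne hc hout (hC w) (hCU w) (hCne w)
  set Y : AddSubgroup V := Z V a b ⊓ fix a' with hY
  have hex' : ∀ w, ∃ t : H, Max V t ∧ Y ≤ fix t ∧ t * b = b * t ∧ NC V a t ∧
      (U t : AddSubgroup V) ≤ M V a (C w) := by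
    intro w
    have hne' : M V a (C w) ⊓ fix b ≠ ⊥ := by
      intro hbot
      have h1 := card_le_inf_mul (M V a (C w)) b
      rw [hbot, AddSubgroup.card_bot, one_mul, (hnc w).card_M D, ← hab.card_eq D] at h1
      have := one_lt_card_U (V := V) D hab.ha.1
      nlinarith
    obtain ⟨d, ⟨hdM, hdb⟩, hd0⟩ := exists_ne_zero hne'
    obtain ⟨t, ht, hZt, hdt, hUt⟩ := (hnc w).member_U D hdM hd0
    have htb : b * t = t * b := ht.stab_comm D hdt hd0 hdb
    have hta : t ≠ a := fun e => hab.ne (by rw [← e]; exact htb.symm)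
    refine ⟨t, ht, fun z hz => hZt ⟨hz.1.1, hCZ w ⟨hz.2, hz.1.2⟩⟩, htb.symm,
      ⟨hab.ha, ht, fun e => ?_⟩, hUt⟩
    have hle : M V a (C w) ≤ fix a := by
      rw [← (hnc w).span_eq D hab.ha ht (Ne.symm hta) le_sup_left hUt]
      exact sup_le (hab.ha.fix_of_two D h2) (ht.U_le_fix_of_comm D hab.ha hta e.symm)
    obtain ⟨d', hd', hd0'⟩ := exists_ne_zero (U_ne_bot (V := V) D (hC w).1)
    exact (hnc w).symm.not_fix D hd' hd0' (hle (AddSubgroup.mem_sup_right hd'))
  choose B hB hBY hBb hBnc hBU using hex'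
  have hBinj : Function.Injective B := by
    intro w w' e
    by_contra hne'
    have hM1 : M V a (C w) = M V a (C w') := by
      rw [← (hnc w).span_eq D hab.ha (hB w) (hBnc w).ne' le_sup_left (hBU w),
        ← (hnc w').span_eq D hab.ha (hB w') (hBnc w').ne' le_sup_left (hBU w'), e]
    have hcc : C w ≠ C w' := fun e' => hne' (hCinj e')
    have hM2 : M V a' b ≤ M V a (C w) := by
      rw [← hb.span_eq D (hC w) (hC w') hcc (hCU w) (hCU w')]
      exact sup_le le_sup_right (hM1.symm ▸ le_sup_right)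
    have hle : M V a (C w) ≤ fix a := by
      rw [← (hnc w).span_eq D hab.ha hb.ha hne le_sup_left (le_sup_left.trans hM2)]
      exact sup_le (hab.ha.fix_of_two D h2)
        (hb.ha.U_le_fix_of_comm D hab.ha (Ne.symm hne) hc.symm)
    obtain ⟨d', hd', hd0'⟩ := exists_ne_zero (U_ne_bot (V := V) D (hC w).1)
    exact (hnc w).symm.not_fix D hd' hd0' (hle (AddSubgroup.mem_sup_right hd'))
  have hpair : ∀ w w', B w * B w' = B w' * B w := by
    intro w w'
    by_contra hne'
    have h12 : NC V (B w) (B w') := ⟨hB w, hB w', hne'⟩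
    have hb1 : B w ≠ b := fun e => hne' (by rw [e]; exact (hBb w').symm)
    have hb2 : B w' ≠ b := fun e => hne' (by rw [e]; exact hBb w)
    have hYle : Y ≤ Z V (B w) (B w') := le_inf (hBY w) (hBY w')
    have hdis : Y ⊓ M V (B w) (B w') = ⊥ := by
      rw [eq_bot_iff, ← h12.M_inf_Z D, inf_comm (M V (B w) (B w'))]
      exact inf_le_inf_right _ hYle
    have hYb : Y ≤ fix b := inf_le_left.trans inf_le_right
    have hMb : M V (B w) (B w') ≤ fix b :=
      h12.M_le_fix D hab.hb (Ne.symm hb1) (Ne.symm hb2) (hBb w).symm (hBb w').symm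
    have heq : Y ⊔ M V (B w) (B w') = fix b := by
      refine eq_of_le_of_card_le (sup_le hYb hMb) ?_
      rw [card_sup_of_disjoint hdis, h12.card_M D, ← (hBnc w).card_eq D,
        hab.card_fix_member D hab.hb inf_le_right]
      have h3 := card_le_inf_mul (Z V a b) a'
      rw [hq'] at h3
      calc Nat.card (Z V a b) * Nat.card (U a : AddSubgroup V)
          ≤ Nat.card Y * Nat.card (U a : AddSubgroup V) * Nat.card (U a : AddSubgroup V) :=
            Nat.mul_le_mul_right _ h3
        _ = _ := by ring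
    obtain ⟨d, hd, hd0⟩ := exists_ne_zero (U_ne_bot (V := V) D hab.hb.1)
    have hdb : d ∈ Y ⊔ M V (B w) (B w') := heq ▸ hab.hb.fix_of_two D h2 hd
    obtain ⟨z, hz, m, hm, hdz⟩ := AddSubgroup.mem_sup.1 hdb
    have hmZ : m ∈ Z V (B w) (B w') := by
      rw [show m = d - z by rw [← hdz]; abel]
      exact sub_mem ⟨hab.hb.U_le_fix_of_comm D (hB w) (Ne.symm hb1) (hBb w).symm hd,
        hab.hb.U_le_fix_of_comm D (hB w') (Ne.symm hb2) (hBb w').symm hd⟩ (hYle hz)
    have hm0 : m ∈ M V (B w) (B w') ⊓ Z V (B w) (B w') := ⟨hm, hmZ⟩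
    rw [h12.M_inf_Z D, AddSubgroup.mem_bot] at hm0
    rw [hm0, add_zero] at hdz
    exact hab.symm.not_fix D hd hd0 (hdz ▸ hz.1.1)
  obtain ⟨u, hu, hu0⟩ := exists_ne_zero (U_ne_bot (V := V) D hab.ha.1)
  let f : ↥(U a' : AddSubgroup V) → ↥(U a : AddSubgroup V) := fun w =>
    ⟨(u - B w • u) - a • (u - B w • u), sub_mem_U a _⟩
  have hf0 : ∀ w, (f w : V) ≠ 0 := fun w => sub_ne_zero.2 (Ne.symm
    ((hBnc w).symm.not_fix D (sub_mem_U (B w) u)
      (sub_ne_zero.2 (Ne.symm ((hBnc w).not_fix D hu hu0)))))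
  have hfinj : Function.Injective f := by
    intro w w' e
    by_contra hne'
    have hBne : B w ≠ B w' := fun e' => hne' (hBinj e')
    have e' : u - B w • u - a • (u - B w • u) = u - B w' • u - a • (u - B w' • u) :=
      congrArg Subtype.val e
    set z := (u - B w • u) - (u - B w' • u) with hz
    have haz : a • z = z := by
      rw [hz, smul_sub]
      rw [sub_eq_sub_iff_sub_eq_sub] at e'
      exact e'.symm
    have hbz : B w • z = z := by
      rw [hz, smul_sub, show B w • (u - B w • u) = u - B w • u from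
        (hB w).fix_of_two D h2 (sub_mem_U (B w) u),
        show B w • (u - B w' • u) = u - B w' • u from
        (hB w').U_le_fix_of_comm D (hB w) (Ne.symm hBne) (hpair w' w) (sub_mem_U (B w') u)]
    have hz0 : z = 0 := by
      refine translate D h2 (hBnc w) hu hu0 ⟨haz, hbz⟩ (f := B w' * B w) ?_
      rw [mul_smul, (hB w).smul_smul_self D, hz]
      abel
    rw [hz, sub_eq_zero] at hz0
    exact hBne ((hB w).eq_of_U D (hB w') (sub_mem_U (B w) u) (hz0 ▸ sub_mem_U (B w') u)
      (sub_ne_zero.2 (Ne.symm ((hBnc w).not_fix D hu hu0))))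
  have hbij : Function.Bijective f := (Nat.bijective_iff_injective_and_card f).2 ⟨hfinj, hq'⟩
  obtain ⟨w, hw⟩ := hbij.2 0
  exact hf0 w (congrArg Subtype.val hw)

theorem kill_odd (D : Data H V) (h2 : ∀ v : V, v + v = 0 → v = 0) (hab : NC V a b)
    (hb : NC V a' b) (hne : a ≠ a') (hc : a * a' = a' * a)
    (hout : ¬ (U a : AddSubgroup V) ≤ M V a' b) : False := by
  classical
  haveI := D.finV
  haveI := D.finH
  letI := Fintype.ofFinite V
  letI := Fintype.ofFinite H
  set q := Nat.card (U a : AddSubgroup V) with hq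
  have hq' : Nat.card (U a' : AddSubgroup V) = q :=
    (hb.card_eq D).trans (hab.card_eq D).symm
  have hq2 : 1 < q := one_lt_card_U D hab.ha.1
  have hdisN : (U a : AddSubgroup V) ⊓ M V a' b = ⊥ := by
    rw [eq_bot_iff]
    rintro d ⟨hd, hdM⟩
    by_contra h0
    exact hout (hb.member_of_inter D hab.ha hd hdM
      (fun e => h0 (by rw [e]; exact zero_mem _))).1
  set N : AddSubgroup V := U a ⊔ M V a' b with hN
  have hNcard : Nat.card N = q * q * q := by
    rw [card_sup_of_disjoint hdisN, hb.card_M D, hq', mul_assoc]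
  set Q : AddSubgroup V := U a ⊔ U a' with hQ
  let Good : V → Prop := fun v => ∃ t : H, Max V t ∧ v ∈ (U t : AddSubgroup V) ∧
    (U t : AddSubgroup V) ≤ N ∧ Nat.card (U t : AddSubgroup V) = q
  have good_plane : ∀ c d : H, NC V c d → Nat.card (U c : AddSubgroup V) = q → M V c d ≤ N →
      ∀ v ∈ M V c d, v ≠ 0 → Good v := by
    intro c d hcd hcq hle v hv hv0
    obtain ⟨t, ht, hZt, hvt, hUt⟩ := hcd.member_U D hv hv0
    exact ⟨t, ht, hvt, hUt.trans hle, (hcd.card_member D ht hZt).trans hcq⟩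
  have good_out : ∀ v ∈ N, v ∉ Q → Good v := by
    intro v hv hvQ
    obtain ⟨u, hu, m, hm, rfl⟩ := AddSubgroup.mem_sup.1 hv
    have hm0 : m ≠ 0 := fun e => hvQ (by rw [e, add_zero]; exact AddSubgroup.mem_sup_left hu)
    obtain ⟨c, hcm, hZc, hmc, hUc⟩ := hb.member_U D hm hm0
    have hca' : c ≠ a' := fun e => hvQ (add_mem (AddSubgroup.mem_sup_left hu)
      (AddSubgroup.mem_sup_right (e ▸ hmc)))
    exact good_plane a c (nc_of_member D hab hb hne hc hout hcm hUc hca') rfl
      (sup_le le_sup_left (hUc.trans le_sup_right)) _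
      (add_mem (AddSubgroup.mem_sup_left hu) (AddSubgroup.mem_sup_right hmc))
      (fun e => hvQ (e ▸ zero_mem _))
  have hQN : Q ≤ N := sup_le le_sup_left (le_sup_left.trans le_sup_right)
  have good_all : ∀ v ∈ N, v ≠ 0 → Good v := by
    intro v hv hv0
    by_cases hvQ : v ∈ Q
    swap
    · exact good_out v hv hvQ
    obtain ⟨n, hn, hnQ⟩ : ∃ n ∈ N, n ∉ Q := by
      by_contra hall
      push Not at hall
      have h1 : Nat.card N ≤ Nat.card Q := AddSubgroup.card_le_of_le hall
      have h2' : Nat.card Q ≤ q * q := by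
        have h3 : (U a : AddSubgroup V) ⊓ U a' = ⊥ := hab.ha.U_inf_U D hb.ha hne
        rw [card_sup_of_disjoint h3, hq']
      rw [hNcard] at h1
      nlinarith
    have hnn : n + n ∉ Q := fun h3 => hnQ (by
      let f : ↥Q → ↥Q := fun w => w + w
      have hf : Function.Injective f := fun w w' e => by
        refine Subtype.ext (sub_eq_zero.1 (h2 _ ?_))
        have e' : (w : V) + w = w' + w' := congrArg Subtype.val e
        rw [sub_add_sub_comm, e', sub_self]
      obtain ⟨w, hw⟩ := (Finite.injective_iff_surjective.1 hf) ⟨n + n, h3⟩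
      have e' : (w : V) + w = n + n := congrArg Subtype.val hw
      rw [show n = w from (sub_eq_zero.1 (h2 _ (by rw [sub_add_sub_comm, e', sub_self]))).symm]
      exact w.2)
    have key : ∀ m ∈ N, m ∉ Q → ∀ c : H, Max V c → m ∈ (U c : AddSubgroup V) →
        (U c : AddSubgroup V) ≤ N → Nat.card (U c : AddSubgroup V) = q →
          Good v ∨ c • (v - m) = v - m := by
      intro m hmN hmQ c hcm hmc hcN hcq
      obtain ⟨d, hdm, hvd, hdN, hdq⟩ := good_out (v - m) (sub_mem hv hmN)
        (fun h3 => hmQ (by simpa using sub_mem hvQ h3))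
      by_cases hcd : d = c
      · subst hcd
        exact Or.inl ⟨d, hdm, by simpa using add_mem hmc hvd, hcN, hcq⟩
      by_cases hcomm : c * d = d * c
      · exact Or.inr (hdm.U_le_fix_of_comm D hcm hcd hcomm.symm hvd)
      · refine Or.inl (good_plane c d ⟨hcm, hdm, hcomm⟩ hcq (sup_le hcN hdN) v ?_ hv0)
        simpa using add_mem (AddSubgroup.mem_sup_left hmc : m ∈ M V c d)
          (AddSubgroup.mem_sup_right hvd)
    obtain ⟨c, hcm, hnc', hcN, hcq⟩ := good_out n hn hnQ
    rcases key n hn hnQ c hcm hnc' hcN hcq with hgood | e1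
    · exact hgood
    rcases key (n + n) (add_mem hn hn) hnn c hcm (add_mem hnc' hnc') hcN hcq with hgood | e2
    · exact hgood
    exfalso
    have e3 : c • n = n := by
      have := congrArg₂ (· - ·) e1 e2
      simp only [← smul_sub] at this
      rwa [show v - n - (v - (n + n)) = n by abel] at this
    have h3 : n ∈ (U c : AddSubgroup V) ⊓ fix c := ⟨hnc', e3⟩
    rw [hcm.disj_of_odd D h2, AddSubgroup.mem_bot] at h3
    exact hnQ (h3 ▸ zero_mem _)
  let T : Finset H := Finset.univ.filter fun t =>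
    Max V t ∧ (U t : AddSubgroup V) ≤ N ∧ Nat.card (U t : AddSubgroup V) = q
  let toF : AddSubgroup V → Finset V := fun A => (Finset.univ.filter fun v => v ∈ A).erase 0
  have toF_mem : ∀ (A : AddSubgroup V) (v : V), v ∈ toF A ↔ v ≠ 0 ∧ v ∈ A := by
    intro A v; simp [toF]
  have toF_card : ∀ A : AddSubgroup V, (toF A).card + 1 = Nat.card A := by
    intro A
    rw [Finset.card_erase_add_one (by simp [zero_mem]), Nat.card_eq_fintype_card,
      Fintype.subtype_card]
    simp
  have count : ∀ (W : AddSubgroup V) (X : Finset H), X ⊆ T →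
      (∀ t ∈ X, (U t : AddSubgroup V) ≤ W) →
      (∀ w ∈ W, w ≠ 0 → ∃ t ∈ X, w ∈ (U t : AddSubgroup V)) →
      X.card * (q - 1) + 1 = Nat.card W := by
    intro W X hXT hle hcov
    have e : X.biUnion (fun t => toF (U t)) = toF W := by
      ext w
      simp only [Finset.mem_biUnion, toF_mem]
      constructor
      · rintro ⟨t, ht, hw0, hw⟩
        exact ⟨hw0, hle t ht hw⟩
      · rintro ⟨hw0, hw⟩
        obtain ⟨t, ht, hwt⟩ := hcov w hw hw0
        exact ⟨t, ht, hw0, hwt⟩
    rw [← toF_card W, ← e, Finset.card_biUnion]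
    · rw [Finset.sum_const_nat (m := q - 1)]
      intro t ht
      have h3 := toF_card (U t)
      have h4 := hXT ht
      simp only [T, Finset.mem_filter] at h4
      rw [h4.2.2.2] at h3
      omega
    · intro s hs t ht hst
      rw [Function.onFun, Finset.disjoint_left]
      intro w hw hw'
      rw [toF_mem] at hw hw'
      have h4 := hXT hs
      have h5 := hXT ht
      simp only [T, Finset.mem_filter] at h4 h5
      exact hst (h4.2.1.eq_of_U D h5.2.1 hw.2 hw'.2 hw.1)
  have hT : T.card * (q - 1) + 1 = q * q * q := by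
    rw [← hNcard]
    refine count N T subset_rfl (fun t ht => ?_) fun w hw hw0 => ?_
    · simp only [T, Finset.mem_filter] at ht
      exact ht.2.2.1
    · obtain ⟨t, ht, hwt, hUt, hcq⟩ := good_all w hw hw0
      exact ⟨t, Finset.mem_filter.2 ⟨Finset.mem_univ _, ht, hUt, hcq⟩, hwt⟩
  let O : V → Finset V := fun v => Finset.univ.filter fun v' => v' ∈ N ∧ ∃ g : H, g • v = v'
  have hO : ∀ v ∈ N, v ≠ 0 → (O v).card = q * q + 1 := by
    intro v hv hv0
    obtain ⟨e, he, hve, heN, heq⟩ := good_all v hv hv0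
    set X := T.filter (fun t => t • v = v) with hX
    have hev : e • v ≠ v := fun h3 => hv0 (h2 v (by
      rw [he.smul_U D hve] at h3
      nth_rw 1 [← h3]
      exact neg_add_cancel v))
    have hdis : (N ⊓ fix e) ⊓ U e = ⊥ := by
      rw [eq_bot_iff, ← he.disj_of_odd D h2, inf_comm (U e : AddSubgroup V)]
      exact inf_le_inf_right _ inf_le_right
    have hWle := card_le_inf_mul N e
    have hWge := card_mul_le hdis inf_le_left heN
    rw [heq, hNcard] at hWle hWge
    have hW : Nat.card ↥(N ⊓ fix e) = q * q :=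
      Nat.eq_of_mul_eq_mul_right (by omega) (le_antisymm hWge hWle)
    have hXc : X.card * (q - 1) + 1 = q * q := by
      rw [← hW]
      refine count (N ⊓ fix e) X (Finset.filter_subset _ _) (fun t ht => ?_) fun w hw hw0 => ?_
      · simp only [X, T, Finset.mem_filter] at ht
        refine le_inf ht.1.2.2.1 (ht.1.2.1.U_le_fix_of_comm D he ?_ ?_)
        · rintro rfl
          exact hev ht.2
        · exact he.stab_comm D hve hv0 ht.2
      · obtain ⟨t, ht, hwt, hUt, hcq⟩ := good_all w hw.1 hw0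
        have hte : t ≠ e := by
          rintro rfl
          have h3 : w ∈ (U t : AddSubgroup V) ⊓ fix t := ⟨hwt, hw.2⟩
          rw [ht.disj_of_odd D h2] at h3
          exact hw0 (AddSubgroup.mem_bot.1 h3)
        have hcomm := ht.stab_comm D hwt hw0 hw.2
        refine ⟨t, ?_, hwt⟩
        simp only [X, T, Finset.mem_filter]
        exact ⟨⟨Finset.mem_univ _, ht, hUt, hcq⟩,
          he.U_le_fix_of_comm D ht (Ne.symm hte) hcomm hve⟩
    set Y := T.filter (fun t => ¬ t • v = v) with hY
    have himg : Y.image (fun t => t • v) = (O v).erase v := by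
      ext v'
      simp only [Finset.mem_image, Y, T, O, Finset.mem_filter, Finset.mem_erase]
      constructor
      · rintro ⟨t, ⟨⟨-, -, hUt, -⟩, htv⟩, rfl⟩
        refine ⟨htv, Finset.mem_univ _, ?_, t, rfl⟩
        have := sub_mem hv (hUt (sub_mem_U t v))
        rwa [sub_sub_cancel] at this
      · rintro ⟨hne', -, hv'N, g, hg⟩
        have hd0 : v - v' ≠ 0 := sub_ne_zero.2 (Ne.symm hne')
        obtain ⟨t, ht, hdt, hUt, hcq⟩ := good_all (v - v') (sub_mem hv hv'N) hd0
        obtain ⟨y, hy⟩ := exists_of_mem_U hdt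
        have hty : t • y ≠ y := fun h3 => hd0 (by rw [← hy, h3, sub_self])
        have h3 := ht.rule D hty (v := v) (h := g) (by rw [hg, hy, sub_sub_cancel])
        rw [hy] at h3
        have h4 : t • v = v' := sub_right_injective h3
        exact ⟨t, ⟨⟨Finset.mem_univ _, ht, hUt, hcq⟩, h4 ▸ hne'⟩, h4⟩
    have hinj : Set.InjOn (fun t : H => t • v) ↑Y := by
      intro t ht t' ht' e
      simp only [Y, T, Finset.coe_filter, Finset.mem_filter, Set.mem_ofPred_eq] at ht ht'
      have e' : v - t • v = v - t' • v := congrArg (v - ·) e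
      exact ht.1.2.1.eq_of_U D ht'.1.2.1 (sub_mem_U t v) (e' ▸ sub_mem_U t' v)
        (sub_ne_zero.2 (Ne.symm ht.2))
    have hc1 := Finset.card_image_of_injOn hinj
    rw [himg, Finset.card_erase_of_mem (Finset.mem_filter.2 ⟨Finset.mem_univ _, hv, 1, one_smul H v⟩)] at hc1
    have hsum : X.card + Y.card = T.card :=
      Finset.card_filter_add_card_filter_not (fun t : H => t • v = v)
    have hpos : 0 < (O v).card := Finset.card_pos.2 ⟨v, by
      simp only [O, Finset.mem_filter]; exact ⟨Finset.mem_univ _, hv, 1, one_smul H v⟩⟩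
    obtain ⟨r, hr⟩ : ∃ r, q = r + 1 := ⟨q - 1, by omega⟩
    rw [hr, Nat.add_sub_cancel] at hT hXc
    have hYr : Y.card * r = q * q * r := by
      rw [hr]
      rw [← hsum] at hT
      nlinarith
    have hY2 : Y.card = q * q := Nat.eq_of_mul_eq_mul_right (by omega) hYr
    simp only [O] at hc1 hpos ⊢
    omega
  have hfib := Finset.card_eq_sum_card_image O (toF N)
  rw [Finset.sum_const_nat (m := q * q + 1)] at hfib
  · have h3 := toF_card N
    rw [hNcard, hfib] at h3
    set k := (Finset.image O (toF N)).card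
    have hk : k < q := by nlinarith
    have h4 : k + 1 = q * q * (q - k) := by
      rw [Nat.mul_sub, ← h3]
      have : q * q * k + (k + 1) = k * (q * q + 1) + 1 := by ring
      omega
    have : q * q * 1 ≤ q * q * (q - k) := Nat.mul_le_mul_left _ (by omega)
    nlinarith
  · intro F hF
    obtain ⟨v, hv, rfl⟩ := Finset.mem_image.1 hF
    rw [toF_mem] at hv
    rw [← hO v hv.2 hv.1]
    congr 1
    ext w
    simp only [Finset.mem_filter, toF_mem, O, Finset.mem_univ, true_and]
    constructor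
    · rintro ⟨⟨-, hwN⟩, he⟩
      have : w ∈ (Finset.univ.filter fun v' => v' ∈ N ∧ ∃ g : H, g • w = v') := by
        simp only [Finset.mem_filter, Finset.mem_univ, true_and]
        exact ⟨hwN, 1, one_smul H w⟩
      rw [he] at this
      simpa using this
    · rintro ⟨hwN, g, hg⟩
      refine ⟨⟨?_, hwN⟩, ?_⟩
      · rw [← hg]
        exact fun e => hv.1 (by simpa using congrArg (g⁻¹ • ·) e)
      · ext v'
        simp only [Finset.mem_filter, Finset.mem_univ, true_and]
        refine and_congr_right fun _ => ⟨fun ⟨g', hg'⟩ => ⟨g' * g, by rw [mul_smul, hg, hg']⟩,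
          fun ⟨g', hg'⟩ => ⟨g' * g⁻¹, by rw [← hg, mul_smul, inv_smul_smul, hg']⟩⟩

/-- Two commuting elements with a common non-commuting neighbour lie in one plane. -/
theorem kill (D : Data H V) (hab : NC V a b) (hb : NC V a' b) (hne : a ≠ a')
    (hc : a * a' = a' * a) : (U a : AddSubgroup V) ≤ M V a' b := by
  by_contra hout
  rcases D.two with h2 | h2
  · exact kill_two D h2 hab hb hne hc hout
  · exact kill_odd D h2 hab hb hne hc hout

end CfsgLib.BinAff
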