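import Cfsg.Agent.Lib.BinaryAffine.Plane

/-!
Members of a plane and their incidences.
-/

set_option autoImplicit false
set_option linter.unusedSectionVars false
set_option linter.style.haveILetI false

namespace CfsgLib.BinAff

variable {H V : Type*} [Group H] [AddCommGroup V] [DistribMulAction H V]

theorem one_lt_card_U (D : Data H V) {r : H} (hr : r ≠ 1) :
    1 < Nat.card (U r : AddSubgroup V) := by
  haveI := D.finV
  exact (AddSubgroup.one_lt_card_iff_ne_bot _).2 (U_ne_bot D hr)

namespace NC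

variable {a b s t : H}

theorem member_of_inter (D : Data H V) (h : NC V a b) (ht : Max V t) {d : V}
    (hd : d ∈ (U t : AddSubgroup V)) (hdM : d ∈ M V a b) (hd0 : d ≠ 0) :
    (U t : AddSubgroup V) ≤ M V a b ∧ Z V a b ≤ fix t := by
  obtain ⟨s, hs, hZ, hds, hU⟩ := h.member_U D hdM hd0
  rw [ht.eq_of_U D hs hd hds hd0]
  exact ⟨hU, hZ⟩

theorem member_Z (D : Data H V) (h : NC V a b) (ht : Max V t)
    (hU : (U t : AddSubgroup V) ≤ M V a b) : Z V a b ≤ fix t := by
  obtain ⟨d, hd, hd0⟩ := exists_ne_zero (U_ne_bot (V := V) D ht.1)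
  exact (h.member_of_inter D ht hd (hU hd) hd0).2

theorem span_eq (D : Data H V) (h : NC V a b) (hs : Max V s) (ht : Max V t) (hne : s ≠ t)
    (hsU : (U s : AddSubgroup V) ≤ M V a b) (htU : (U t : AddSubgroup V) ≤ M V a b) :
    (U s : AddSubgroup V) ⊔ U t = M V a b := by
  haveI := D.finV
  refine eq_of_le_of_card_le (sup_le hsU htU) ?_
  rw [card_sup_of_disjoint (hs.U_inf_U D ht hne), h.card_M D,
    h.card_member D hs (h.member_Z D hs hsU), h.card_member D ht (h.member_Z D ht htU)]

theorem card_M_inf_fix (D : Data H V) (h : NC V a b) (ht : Max V t)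
    (hU : (U t : AddSubgroup V) ≤ M V a b) :
    Nat.card ↥(M V a b ⊓ fix t) = Nat.card (U a : AddSubgroup V) := by
  haveI := D.finV
  have hZ := h.member_Z D ht hU
  refine le_antisymm ?_ ?_
  · have hdis : Z V a b ⊓ (M V a b ⊓ fix t) = ⊥ := by
      rw [eq_bot_iff, ← h.M_inf_Z D, inf_comm (M V a b) (Z V a b)]
      exact inf_le_inf_left _ inf_le_left
    have h1 := card_mul_le hdis hZ inf_le_right
    rw [h.card_fix_member D ht hZ] at h1
    exact Nat.le_of_mul_le_mul_left h1 Nat.card_pos
  · have h1 := card_le_inf_mul (M V a b) t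
    rw [h.card_M D, h.card_member D ht hZ] at h1
    exact Nat.le_of_mul_le_mul_right h1 Nat.card_pos

/-- The member displacing exactly the fixed part of a member. -/
theorem exists_perp (D : Data H V) (h : NC V a b) (ht : Max V t)
    (hU : (U t : AddSubgroup V) ≤ M V a b) :
    ∃ g : H, Max V g ∧ g * t = t * g ∧ (U g : AddSubgroup V) = M V a b ⊓ fix t ∧
      (U t : AddSubgroup V) ≤ fix g := by
  haveI := D.finV
  have hne : M V a b ⊓ fix t ≠ ⊥ := by
    rw [Ne, ← AddSubgroup.card_eq_one, h.card_M_inf_fix D ht hU]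
    exact (one_lt_card_U (V := V) D h.ha.1).ne'
  obtain ⟨d, ⟨hdM, hdt⟩, hd0⟩ := exists_ne_zero hne
  obtain ⟨g, hg, hZg, hdg, hUg⟩ := h.member_U D hdM hd0
  replace hdt : t • d = d := hdt
  have hgt : t * g = g * t := hg.stab_comm D hdg hd0 hdt
  have hle : (U g : AddSubgroup V) ≤ fix t := by
    by_cases e : g = t
    · subst e
      rcases D.two with h2 | h2
      · exact hg.fix_of_two D h2
      · exfalso
        have h3 : d ∈ (U g : AddSubgroup V) ⊓ fix g := ⟨hdg, hdt⟩
        rw [hg.disj_of_odd D h2] at h3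
        exact hd0 (AddSubgroup.mem_bot.1 h3)
    · exact hg.U_le_fix_of_comm D ht e hgt.symm
  refine ⟨g, hg, hgt.symm, eq_of_le_of_card_le (le_inf hUg hle) ?_, ?_⟩
  · rw [h.card_M_inf_fix D ht hU, h.card_member D hg hZg]
  · by_cases e : t = g
    · subst e
      exact hle
    · exact ht.U_le_fix_of_comm D hg e hgt

/-- An element commuting with two non-commuting members fixes the plane. -/
theorem M_le_fix (D : Data H V) (h : NC V a b) (ht : Max V t)
    (ha : t ≠ a) (hb : t ≠ b) (hca : t * a = a * t) (hcb : t * b = b * t) :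
    M V a b ≤ fix t :=
  sup_le (h.ha.U_le_fix_of_comm D ht (Ne.symm ha) hca.symm)
    (h.hb.U_le_fix_of_comm D ht (Ne.symm hb) hcb.symm)

end NC

end CfsgLib.BinAff
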