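import Cfsg.Agent.Lib.BinaryAffine.Basic

/-!
The plane of a non-commuting pair of elements with maximal fixed spaces.
-/

set_option autoImplicit false
set_option linter.unusedSectionVars false
set_option linter.style.haveILetI false

namespace CfsgLib.BinAff

variable {H V : Type*} [Group H] [AddCommGroup V] [DistribMulAction H V]

/-- The common fixed space of a pair. -/
abbrev Z (V : Type*) [AddCommGroup V] [DistribMulAction H V] (a b : H) : AddSubgroup V :=
  fix a ⊓ fix b

/-- The plane of a pair. -/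
abbrev M (V : Type*) [AddCommGroup V] [DistribMulAction H V] (a b : H) : AddSubgroup V :=
  U a ⊔ U b

namespace NC

variable {a b t : H}

theorem U_inf_Z (D : Data H V) (h : NC V a b) : (U a : AddSubgroup V) ⊓ Z V a b = ⊥ := by
  rw [eq_bot_iff, ← h.U_inf_fix D]
  exact inf_le_inf_left _ inf_le_right

theorem fix_le_mul (D : Data H V) (h : NC V a b) :
    Nat.card (fix a : AddSubgroup V) ≤ Nat.card (Z V a b) * Nat.card (U a : AddSubgroup V) := by
  haveI := D.finV
  refine (card_le_inf_mul (fix a) b).trans ?_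
  rw [h.card_eq D]

theorem card_le_Z (D : Data H V) (h : NC V a b) :
    Nat.card V ≤ Nat.card (Z V a b) * Nat.card (U a : AddSubgroup V) *
      Nat.card (U a : AddSubgroup V) := by
  haveI := D.finV
  rw [← card_U_mul (V := V) a, mul_comm (Nat.card (U a : AddSubgroup V))]
  exact Nat.mul_le_mul_right _ (h.fix_le_mul D)

theorem two_fix (D : Data H V) (h : NC V a b) (h2 : ∀ v : V, v + v = 0) :
    Z V a b ⊔ U a = fix a := by
  haveI := D.finV
  refine eq_of_le_of_card_le (sup_le inf_le_left (h.ha.fix_of_two D h2)) ?_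
  rw [card_sup_of_disjoint (by rw [inf_comm]; exact h.U_inf_Z D)]
  exact h.fix_le_mul D

/-- A maximal element over the pair commuting with both does not exist. -/
theorem isolation (D : Data H V) (h : NC V a b) (ht : Max V t) (hZ : Z V a b ≤ fix t)
    (hca : t * a = a * t) (hcb : t * b = b * t) : False := by
  have hta : t ≠ a := by
    rintro rfl
    exact h.ne hcb
  have htb : t ≠ b := by
    rintro rfl
    exact h.ne hca.symm
  rcases D.two with h2 | h2
  · have ea : (fix a : AddSubgroup V) ≤ fix t := by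
      rw [← h.two_fix D h2]
      exact sup_le hZ (h.ha.U_le_fix_of_comm D ht (Ne.symm hta) hca.symm)
    have eb : (fix b : AddSubgroup V) ≤ fix t := by
      rw [← h.symm.two_fix D h2]
      exact sup_le ((inf_comm (fix b : AddSubgroup V) (fix a)).le.trans hZ)
        (h.hb.U_le_fix_of_comm D ht (Ne.symm htb) hcb.symm)
    obtain ⟨d, hd, hd0⟩ := exists_ne_zero (U_ne_bot (V := V) D h.ha.1)
    have h1 : d ∈ (fix b : AddSubgroup V) :=
      h.hb.2 t ht.1 eb (ea (h.ha.fix_of_two D h2 hd))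
    exact h.not_fix D hd hd0 h1
  · obtain ⟨d, hd, hd0⟩ := exists_ne_zero (U_ne_bot (V := V) D ht.1)
    have h1 : d ∈ (fix t : AddSubgroup V) :=
      hZ ⟨ht.U_le_fix_of_comm D h.ha hta hca hd, ht.U_le_fix_of_comm D h.hb htb hcb hd⟩
    have h3 : d ∈ (U t : AddSubgroup V) ⊓ fix t := ⟨hd, h1⟩
    rw [ht.disj_of_odd D h2] at h3
    exact hd0 (AddSubgroup.mem_bot.1 h3)

/-- No nontrivial element fixes the common fixed space and points in both displacement spaces. -/
theorem core (D : Data H V) (h : NC V a b) {f : H} (hf : f ≠ 1) (hZ : Z V a b ≤ fix f) {d d' : V}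
    (hd : d ∈ (U a : AddSubgroup V)) (hd0 : d ≠ 0) (hfd : f • d = d)
    (hd' : d' ∈ (U b : AddSubgroup V)) (hd0' : d' ≠ 0) (hfd' : f • d' = d') : False := by
  obtain ⟨t, ht, hle⟩ := exists_max (V := V) D hf
  exact h.isolation D ht (hZ.trans hle) (h.ha.stab_comm D hd hd0 (hle hfd))
    (h.hb.stab_comm D hd' hd0' (hle hfd'))

theorem sq_ne_one (D : Data H V) (h : NC V a b) : a * b * (a * b) ≠ 1 := by
  intro e
  refine h.ne ?_
  have := inv_eq_of_mul_eq_one_right e
  rwa [mul_inv_rev, h.ha.inv_eq D, h.hb.inv_eq D, eq_comm] at this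

theorem fix_sq (D : Data H V) (h : NC V a b) :
    (fix (a * b * (a * b)) : AddSubgroup V) = Z V a b := by
  refine le_antisymm (fun v hv => ?_) fun v hv => fix_mul (fix_mul hv.1 hv.2) (fix_mul hv.1 hv.2)
  have hZ : Z V a b ≤ fix (a * b * (a * b)) := fun w hw =>
    fix_mul (fix_mul hw.1 hw.2) (fix_mul hw.1 hw.2)
  replace hv : (a * b * (a * b)) • v = v := hv
  have hinv := fix_inv hv
  have haF : ∀ w : V, (a * b * (a * b)) • w = w → (a * b * (a * b)) • a • w = a • w := by
    intro w hw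
    have hwi := fix_inv hw
    rw [mul_inv_rev, mul_inv_rev, h.ha.inv_eq D, h.hb.inv_eq D] at hwi
    conv_rhs => rw [← hwi]
    simp only [mul_smul]
  have hbF : ∀ w : V, (a * b * (a * b)) • w = w → (a * b * (a * b)) • b • w = b • w := by
    intro w hw
    have hwi := fix_inv hw
    rw [mul_inv_rev, mul_inv_rev, h.ha.inv_eq D, h.hb.inv_eq D] at hwi
    conv_rhs => rw [← hwi]
    simp only [mul_smul, h.hb.smul_smul_self D]
  by_cases hav : a • v = v
  · by_cases hbv : b • v = v
    · exact ⟨hav, hbv⟩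
    · exfalso
      set d' := v - b • v with hd'def
      have hd'0 : d' ≠ 0 := sub_ne_zero.2 (Ne.symm hbv)
      have hfd' : (a * b * (a * b)) • d' = d' := by rw [hd'def, smul_sub, hv, hbF v hv]
      have had : a • d' ≠ d' := h.symm.not_fix D (sub_mem_U b v) hd'0
      refine h.core D (h.sq_ne_one D) hZ (sub_mem_U a d') (sub_ne_zero.2 (Ne.symm had)) ?_
        (sub_mem_U b v) hd'0 hfd'
      rw [smul_sub, hfd', haF d' hfd']
  · exfalso
    set d := v - a • v with hddef
    have hd0 : d ≠ 0 := sub_ne_zero.2 (Ne.symm hav)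
    have hfd : (a * b * (a * b)) • d = d := by rw [hddef, smul_sub, hv, haF v hv]
    have hbd : b • d ≠ d := h.not_fix D (sub_mem_U a v) hd0
    refine h.core D (h.sq_ne_one D) hZ (sub_mem_U a v) hd0 hfd
      (sub_mem_U b d) (sub_ne_zero.2 (Ne.symm hbd)) ?_
    rw [smul_sub, hfd, hbF d hfd]

theorem cover (D : Data H V) (h : NC V a b) {x : V} (hx : x ∉ Z V a b) :
    ∃ k : H, k ≠ 1 ∧ Z V a b ≤ fix k ∧ k • x = x ∧
      Z V a b ≤ fix (a * b * k * (a * b)) ∧ (a * b * k * (a * b)) • x = x := by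
  obtain ⟨j, h1, h2, h3⟩ := swapEl D (a * b) x
  have hj : ∀ z ∈ Z V a b, j • z = z := fun z hz => h3 z (fix_mul hz.1 hz.2)
  have hg : ∀ z ∈ Z V a b, (a * b) • z = z := fun z hz => fix_mul hz.1 hz.2
  refine ⟨(a * b)⁻¹ * j, ?_, fun z hz => fix_mul (fix_inv (hg z hz)) (hj z hz),
    by rw [mul_smul, h1, inv_smul_smul], fun z hz => ?_, ?_⟩
  · intro e
    rw [inv_mul_eq_one] at e
    apply hx
    rw [← h.fix_sq D]
    show (a * b * (a * b)) • x = x
    rw [mul_smul (a * b)]
    nth_rw 1 [e]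
    exact h2
  · show (a * b * ((a * b)⁻¹ * j) * (a * b)) • z = z
    rw [mul_inv_cancel_left]
    exact fix_mul (hj z hz) (hg z hz)
  · rw [mul_inv_cancel_left, mul_smul, h2]

theorem exists_partner (D : Data H V) (h : NC V a b) :
    ∃ t : H, NC V t b ∧ Z V a b ≤ fix t ∧ (U a : AddSubgroup V) ≤ fix t := by
  rcases D.two with h2 | h2
  · exact ⟨a, h, inf_le_left, h.ha.fix_of_two D h2⟩
  obtain ⟨d, hd, hd0⟩ := exists_ne_zero (U_ne_bot (V := V) D h.ha.1)
  have hdZ : d ∉ Z V a b := fun hz => h.not_fix D hd hd0 hz.2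
  obtain ⟨k, hk, hZk, hkd, -, -⟩ := h.cover D hdZ
  obtain ⟨t, ht, hle⟩ := exists_max (V := V) D hk
  have htd : t • d = d := hle hkd
  have hca : t * a = a * t := h.ha.stab_comm D hd hd0 htd
  have hta : a ≠ t := by
    rintro rfl
    have h3 : d ∈ (U a : AddSubgroup V) ⊓ fix a := ⟨hd, htd⟩
    rw [h.ha.disj_of_odd D h2] at h3
    exact hd0 (AddSubgroup.mem_bot.1 h3)
  exact ⟨t, ⟨ht, h.hb, fun e => h.isolation D ht (hZk.trans hle) hca e⟩, hZk.trans hle,
    h.ha.U_le_fix_of_comm D ht hta hca.symm⟩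

theorem card_Z (D : Data H V) (h : NC V a b) :
    Nat.card (Z V a b) * Nat.card (U a : AddSubgroup V) * Nat.card (U a : AddSubgroup V) =
      Nat.card V := by
  haveI := D.finV
  refine le_antisymm ?_ (h.card_le_Z D)
  obtain ⟨t, ht, hZ, hU⟩ := h.exists_partner D
  have h1 := card_mul_le (by rw [inf_comm]; exact h.U_inf_Z D) hZ hU
  rw [← card_U_mul (V := V) t, ht.card_eq D, ← h.card_eq D,
    mul_comm (Nat.card (U a : AddSubgroup V))]
  exact Nat.mul_le_mul_right _ h1

theorem U_inf_U (D : Data H V) (h : NC V a b) : (U a : AddSubgroup V) ⊓ U b = ⊥ :=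
  h.ha.U_inf_U D h.hb h.ne'

theorem card_M (D : Data H V) (h : NC V a b) :
    Nat.card (M V a b) = Nat.card (U a : AddSubgroup V) * Nat.card (U a : AddSubgroup V) := by
  rw [card_sup_of_disjoint (h.U_inf_U D), ← h.card_eq D]

theorem M_inf_Z (D : Data H V) (h : NC V a b) : M V a b ⊓ Z V a b = ⊥ := by
  rw [eq_bot_iff]
  rintro z ⟨hzM, hzZ⟩
  obtain ⟨u, hu, u', hu', rfl⟩ := AddSubgroup.mem_sup.1 hzM
  obtain ⟨t, ht, hZ, hU⟩ := h.exists_partner D
  have h1 : u' ∈ (fix t : AddSubgroup V) := by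
    have := sub_mem (hZ hzZ) (hU hu)
    rwa [add_sub_cancel_left] at this
  have h2 : u' = 0 := by
    by_contra h0
    exact ht.symm.not_fix D hu' h0 h1
  subst h2
  rw [add_zero] at hzZ ⊢
  rw [AddSubgroup.mem_bot]
  by_contra h0
  exact h.not_fix D hu h0 hzZ.2

theorem M_sup_Z (D : Data H V) (h : NC V a b) : M V a b ⊔ Z V a b = ⊤ := by
  haveI := D.finV
  refine eq_of_le_of_card_le le_top ?_
  rw [AddSubgroup.card_top, card_sup_of_disjoint (h.M_inf_Z D), h.card_M D, ← h.card_Z D]
  exact le_of_eq (by ring)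

theorem card_fix_mul (D : Data H V) (h : NC V a b) :
    Nat.card (fix a : AddSubgroup V) = Nat.card (Z V a b) * Nat.card (U a : AddSubgroup V) := by
  haveI := D.finV
  have h1 := h.card_Z D
  rw [← card_U_mul (V := V) a, mul_comm (Nat.card (U a : AddSubgroup V)) (Nat.card (fix a : _))] at h1
  exact (Nat.eq_of_mul_eq_mul_right Nat.card_pos h1).symm

theorem smul_mem_M (D : Data H V) (h : NC V a b) {v : V} (hv : v ∈ M V a b) :
    a • v ∈ M V a b ∧ b • v ∈ M V a b := by
  obtain ⟨u, hu, u', hu', rfl⟩ := AddSubgroup.mem_sup.1 hv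
  constructor
  · rw [smul_add, h.ha.smul_U D hu, show a • u' = u' - (u' - a • u') by abel]
    exact add_mem (neg_mem (AddSubgroup.mem_sup_left hu))
      (sub_mem (AddSubgroup.mem_sup_right hu') (AddSubgroup.mem_sup_left (sub_mem_U a u')))
  · rw [smul_add, h.hb.smul_U D hu', show b • u = u - (u - b • u) by abel]
    exact add_mem (sub_mem (AddSubgroup.mem_sup_left hu) (AddSubgroup.mem_sup_right (sub_mem_U b u)))
      (neg_mem (AddSubgroup.mem_sup_right hu'))

theorem range_sq (D : Data H V) (h : NC V a b) :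
    (U (a * b * (a * b)) : AddSubgroup V) = M V a b := by
  haveI := D.finV
  refine eq_of_le_of_card_le ?_ ?_
  · rintro _ ⟨v, rfl⟩
    rw [mv_apply, show v - (a * b * (a * b)) • v = (v - a • v) + a • (v - b • v) +
        a • b • (v - a • v) + a • b • a • (v - b • v) by simp only [mul_smul, smul_sub]; abel]
    have ha : ∀ x : V, x - a • x ∈ M V a b := fun x => AddSubgroup.mem_sup_left (sub_mem_U a x)
    have hb : ∀ x : V, x - b • x ∈ M V a b := fun x => AddSubgroup.mem_sup_right (sub_mem_U b x)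
    exact add_mem (add_mem (add_mem (ha v) (h.smul_mem_M D (hb v)).1)
      (h.smul_mem_M D (h.smul_mem_M D (ha v)).2).1)
      (h.smul_mem_M D (h.smul_mem_M D (h.smul_mem_M D (hb v)).1).2).1
  · have h1 := card_U_mul (V := V) (a * b * (a * b))
    rw [h.fix_sq D, ← h.card_Z D] at h1
    rw [h.card_M D]
    refine le_of_eq (Nat.eq_of_mul_eq_mul_right (m := Nat.card (Z V a b)) Nat.card_pos ?_)
    rw [h1]
    ring

theorem card_member (D : Data H V) (h : NC V a b) (ht : Max V t) (hZ : Z V a b ≤ fix t) :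
    Nat.card (U t : AddSubgroup V) = Nat.card (U a : AddSubgroup V) := by
  by_cases hca : t * a = a * t
  · have hcb : t * b ≠ b * t := fun e => h.isolation D ht hZ hca e
    exact (NC.card_eq D ⟨ht, h.hb, hcb⟩).trans (h.card_eq D).symm
  · exact NC.card_eq D ⟨ht, h.ha, hca⟩

theorem card_fix_member (D : Data H V) (h : NC V a b) (ht : Max V t) (hZ : Z V a b ≤ fix t) :
    Nat.card (fix t : AddSubgroup V) = Nat.card (Z V a b) * Nat.card (U a : AddSubgroup V) := by
  haveI := D.finV
  have h1 := card_U_mul (V := V) t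
  rw [h.card_member D ht hZ, ← h.card_Z D, mul_comm] at h1
  exact Nat.eq_of_mul_eq_mul_right Nat.card_pos h1

theorem member_noncomm (D : Data H V) (h : NC V a b) (ht : Max V t) (hZ : Z V a b ≤ fix t) :
    ∃ c : H, NC V t c ∧ Z V a b ≤ fix c := by
  by_cases hca : t * a = a * t
  · exact ⟨b, ⟨ht, h.hb, fun e => h.isolation D ht hZ hca e⟩, inf_le_right⟩
  · exact ⟨a, ⟨ht, h.ha, hca⟩, inf_le_left⟩

theorem fix_unique (D : Data H V) (h : NC V a b) {t₁ t₂ : H} (h1 : Max V t₁) (h2 : Max V t₂)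
    (hZ1 : Z V a b ≤ fix t₁) (hZ2 : Z V a b ≤ fix t₂) {x : V} (hx : x ∉ Z V a b)
    (hx1 : t₁ • x = x) (hx2 : t₂ • x = x) : (fix t₁ : AddSubgroup V) = fix t₂ := by
  haveI := D.finV
  by_cases hne : t₁ = t₂
  · rw [hne]
  by_cases hc : t₁ * t₂ = t₂ * t₁
  · rcases D.two with e2 | e2
    · obtain ⟨c, hnc, hZc⟩ := h.member_noncomm D h1 hZ1
      have hd : (U t₁ : AddSubgroup V) ⊓ Z V a b = ⊥ := by
        rw [eq_bot_iff, ← hnc.U_inf_fix D]
        exact inf_le_inf_left _ hZc
      have e1 : Z V a b ⊔ U t₁ = fix t₁ := by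
        refine eq_of_le_of_card_le (sup_le hZ1 (h1.fix_of_two D e2)) ?_
        rw [card_sup_of_disjoint (by rw [inf_comm]; exact hd), h.card_member D h1 hZ1,
          h.card_fix_member D h1 hZ1]
      refine eq_of_le_of_card_le ?_ ?_
      · rw [← e1]
        exact sup_le hZ2 (h1.U_le_fix_of_comm D h2 hne hc)
      · rw [h.card_fix_member D h1 hZ1, h.card_fix_member D h2 hZ2]
    · exfalso
      have hU2 := h2.U_le_fix_of_comm D h1 (Ne.symm hne) hc.symm
      have hdis : ((fix t₁ : AddSubgroup V) ⊓ fix t₂) ⊓ U t₂ = ⊥ := by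
        rw [eq_bot_iff, ← h2.disj_of_odd D e2, inf_comm (U t₂ : AddSubgroup V)]
        exact inf_le_inf_right _ inf_le_right
      have hle := card_mul_le hdis inf_le_left hU2
      rw [h.card_fix_member D h1 hZ1, h.card_member D h2 hZ2] at hle
      have : Z V a b = fix t₁ ⊓ fix t₂ :=
        eq_of_le_of_card_le (le_inf hZ1 hZ2) (Nat.le_of_mul_le_mul_right hle Nat.card_pos)
      exact hx (this ▸ ⟨hx1, hx2⟩)
  · exfalso
    have hnc : NC V t₁ t₂ := ⟨h1, h2, hc⟩
    have e := hnc.card_Z D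
    rw [h.card_member D h1 hZ1, ← h.card_Z D] at e
    have e' := Nat.eq_of_mul_eq_mul_right Nat.card_pos (Nat.eq_of_mul_eq_mul_right Nat.card_pos e)
    have : Z V a b = Z V t₁ t₂ := eq_of_le_of_card_le (le_inf hZ1 hZ2) (le_of_eq e')
    exact hx (this ▸ ⟨hx1, hx2⟩)

theorem stab_sq (D : Data H V) (h : NC V a b) {t₀ : H} (h0 : Max V t₀) (hZ0 : Z V a b ≤ fix t₀)
    {x : V} (hx : x ∉ Z V a b) (hx0 : t₀ • x = x) {f : H} (hZf : Z V a b ≤ fix f)
    (hfx : f • x = x) :
    f * f = 1 ∧ (f ≠ 1 → (fix f : AddSubgroup V) ≤ fix t₀) := by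
  have hle : ∀ f : H, Z V a b ≤ fix f → f • x = x → f ≠ 1 →
      (fix f : AddSubgroup V) ≤ fix t₀ := by
    intro f hZf hfx hf
    obtain ⟨t, ht, htle⟩ := exists_max (V := V) D hf
    rw [← h.fix_unique D ht h0 (hZf.trans htle) hZ0 hx (htle hfx) hx0]
    exact htle
  refine ⟨?_, hle f hZf hfx⟩
  have key : ∀ y : V, t₀ • y ≠ y → f • f • y = y := by
    intro y hy
    obtain ⟨j, h1, h2, h3⟩ := swapEl D f y
    have : f = j := by
      by_contra hne
      exact hy (hle (j⁻¹ * f)
        (fun z hz => fix_mul (fix_inv (h3 z (hZf hz))) (hZf hz))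
        (fix_mul (fix_inv (h3 x hfx)) hfx) (fun e => hne (inv_mul_eq_one.1 e).symm)
        (show (j⁻¹ * f) • y = y by rw [mul_smul, inv_smul_eq_iff, h1]))
    rwa [← this] at h2
  obtain ⟨y, hy⟩ := fix_ne_top (V := V) D h0.1
  refine D.faithful _ fun v => ?_
  rw [mul_smul]
  by_cases hv : t₀ • v = v
  · have e1 := key y hy
    have e2 := key (y + v) (by rw [smul_add, hv]; exact fun e => hy (add_right_cancel e))
    rw [smul_add, smul_add, e1] at e2
    exact add_left_cancel e2
  · exact key v hv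

/-- Each point outside the common fixed space is fixed by a member of the plane. -/
theorem member_at (D : Data H V) (h : NC V a b) {x : V} (hx : x ∉ Z V a b) :
    ∃ k : H, Max V k ∧ Z V a b ≤ fix k ∧ k • x = x ∧ (U k : AddSubgroup V) ≤ M V a b := by
  haveI := D.finV
  obtain ⟨k, hk, hZk, hkx, hZk', hkx'⟩ := h.cover D hx
  obtain ⟨t₀, h0, hle0⟩ := exists_max (V := V) D hk
  have hZ0 : Z V a b ≤ fix t₀ := hZk.trans hle0
  have hx0 : t₀ • x = x := hle0 hkx
  have sq := fun f hZf hfx => h.stab_sq D h0 hZ0 hx hx0 (f := f) hZf hfx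
  have hkk := (sq k hZk hkx).1
  -- `k` inverts the square
  set g := a * b with hg
  set k' := g * k * g with hk'
  set c := k * k' with hc
  have hk'2 := (sq k' hZk' hkx').1
  have hc2 : c * c = 1 := (sq c (fun z hz => fix_mul (hZk hz) (hZk' hz)) (fix_mul hkx hkx')).1
  have ei : ∀ f : H, f * f = 1 → f⁻¹ = f := fun f e => inv_eq_of_mul_eq_one_right e
  have hcomm : k * k' = k' * k := by
    have := ei c hc2
    rw [hc, mul_inv_rev, ei k hkk, ei k' hk'2] at this
    exact this.symm
  have e1 : k * g * k = c * g⁻¹ := by rw [hc, hk']; group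
  have e2 : c * k = k * c := by
    rw [hc, mul_assoc, ← hcomm]
  have e3 : c * g * c = g := by
    have e4 : k * g⁻¹ * k = g * c := by
      have := congrArg (·⁻¹) e1
      simp only [mul_inv_rev, inv_inv, ei k hkk, ei c hc2] at this
      rw [← this, mul_assoc]
    calc c * g * c = c * (k * g⁻¹ * k) := by rw [e4, mul_assoc]
      _ = k * (c * g⁻¹) * k := by
          rw [← mul_assoc, ← mul_assoc, e2, mul_assoc k c]
      _ = k * (k * g * k) * k := by rw [e1]
      _ = g := by
          rw [show k * (k * g * k) * k = (k * k) * g * (k * k) by group, hkk, one_mul, mul_one]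
  have e5 : c * g⁻¹ * c = g⁻¹ := by
    have := congrArg (·⁻¹) e3
    simp only [mul_inv_rev, ei c hc2] at this
    rw [mul_assoc]
    exact this
  have einv : k * (g * g) * k = (g * g)⁻¹ := by
    calc k * (g * g) * k = (k * g * k) * (k * g * k) := by
          rw [show (k * g * k) * (k * g * k) = k * g * (k * k) * g * k by group, hkk]; group
      _ = (c * g⁻¹ * c) * g⁻¹ := by rw [e1]; group
      _ = (g * g)⁻¹ := by rw [e5, mul_inv_rev g g]
  have hMk : ∀ v ∈ M V a b, k • v ∈ M V a b := by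
    intro v hv
    rw [← h.range_sq D] at hv ⊢
    obtain ⟨y, rfl⟩ := exists_of_mem_U hv
    refine ⟨-((g * g)⁻¹ • k • y), ?_⟩
    have e6 : k * (g * g) = (g * g)⁻¹ * k := by
      rw [← einv, mul_assoc _ k k, hkk, mul_one]
    rw [mv_apply, smul_sub, smul_neg, smul_inv_smul, ← mul_smul k, e6, mul_smul]
    abel
  have hUk : (U k : AddSubgroup V) ≤ M V a b := by
    rintro _ ⟨v, rfl⟩
    have hv : v ∈ M V a b ⊔ Z V a b := by rw [h.M_sup_Z D]; trivial
    obtain ⟨m, hm, z, hz, rfl⟩ := AddSubgroup.mem_sup.1 hv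
    rw [mv_apply, smul_add, show k • z = z from hZk hz,
      show m + z - (k • m + z) = m - k • m by abel]
    exact sub_mem hm (hMk m hm)
  rcases D.two with h2 | h2
  · have hkf : (U k : AddSubgroup V) ≤ fix k := by
      rintro _ ⟨v, rfl⟩
      show k • (v - k • v) = v - k • v
      rw [smul_sub, ← mul_smul, hkk, one_smul, ← neg_sub]
      exact neg_eq_of_add_eq_zero_left (h2 _)
    have hdis : Z V a b ⊓ U k = ⊥ := by
      rw [eq_bot_iff, ← h.M_inf_Z D, inf_comm (Z V a b)]
      exact inf_le_inf_right _ hUk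
    have h1 := card_mul_le hdis hZ0 (hkf.trans hle0)
    rw [h.card_fix_member D h0 hZ0] at h1
    have hUle : Nat.card (U k : AddSubgroup V) ≤ Nat.card (U t₀ : AddSubgroup V) := by
      rw [h.card_member D h0 hZ0]
      exact Nat.le_of_mul_le_mul_left h1 Nat.card_pos
    have heq : (fix k : AddSubgroup V) = fix t₀ := by
      refine eq_of_le_of_card_le hle0 ?_
      have e := card_U_mul (V := V) k
      rw [← card_U_mul (V := V) t₀] at e
      by_contra hlt
      push Not at hlt
      have := Nat.mul_lt_mul_of_le_of_lt hUle hlt Nat.card_pos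
      omega
    exact ⟨k, ⟨hk, fun f hf hfle => by rw [heq] at hfle ⊢; exact h0.2 f hf hfle⟩, hZk, hkx, hUk⟩
  · have : k = t₀ := by
      by_contra hne
      set u := k * t₀ with hu
      have hu1 : u ≠ 1 := fun e => hne (by
        have := eq_inv_of_mul_eq_one_left e
        rwa [h0.inv_eq D] at this)
      have hZu : Z V a b ≤ fix u := fun z hz => fix_mul (hZk hz) (hZ0 hz)
      have hux : u • x = x := fix_mul hkx hx0
      have rev : ∀ f : H, f ≠ 1 → Z V a b ≤ fix f → f • x = x → ∀ y : V,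
          t₀ • (y + f • y) = y + f • y := by
        intro f hf hZf hfx y
        refine (sq f hZf hfx).2 hf ?_
        show f • (y + f • y) = y + f • y
        rw [smul_add, ← mul_smul f f, (sq f hZf hfx).1, one_smul, add_comm]
      obtain ⟨y, hy⟩ := fix_ne_top (V := V) D h0.1
      have hkt : k * t₀ = t₀ * k := by
        have := ei u (sq u hZu hux).1
        rw [hu, mul_inv_rev, h0.inv_eq D, ei k hkk] at this
        exact this.symm
      have p1 : y + t₀ • y ∈ (fix t₀ : AddSubgroup V) := rev t₀ h0.1 hZ0 hx0 y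
      have p2 : y + k • y ∈ (fix t₀ : AddSubgroup V) := rev k hk hZk hkx y
      have p3 : y + u • y ∈ (fix t₀ : AddSubgroup V) := rev u hu1 hZu hux y
      have p4 : k • (y + t₀ • y) ∈ (fix t₀ : AddSubgroup V) :=
        show t₀ • k • (y + t₀ • y) = k • (y + t₀ • y) from Max.smul_fix_mem hkt p1
      have p5 := sub_mem (add_mem p3 p2) p4
      rw [hu, mul_smul, smul_add,
        show y + k • t₀ • y + (y + k • y) - (k • y + k • t₀ • y) = y + y by abel] at p5
      replace p5 : t₀ • (y + y) = y + y := p5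
      rw [smul_add] at p5
      refine hy (sub_eq_zero.1 (h2 _ ?_))
      rw [sub_add_sub_comm, p5, sub_self]
    subst this
    exact ⟨k, h0, hZk, hkx, hUk⟩

/-- The members partition the plane. -/
theorem member_U (D : Data H V) (h : NC V a b) {m : V} (hm : m ∈ M V a b) (hm0 : m ≠ 0) :
    ∃ t : H, Max V t ∧ Z V a b ≤ fix t ∧ m ∈ (U t : AddSubgroup V) ∧
      (U t : AddSubgroup V) ≤ M V a b := by
  classical
  haveI := D.finV
  haveI := D.finH
  letI := Fintype.ofFinite V
  letI := Fintype.ofFinite H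
  set q := Nat.card (U a : AddSubgroup V) with hq
  let toF : AddSubgroup V → Finset V := fun A => (Finset.univ.filter fun v => v ∈ A).erase 0
  have toF_mem : ∀ (A : AddSubgroup V) (v : V), v ∈ toF A ↔ v ≠ 0 ∧ v ∈ A := by
    intro A v; simp [toF]
  have toF_card : ∀ A : AddSubgroup V, (toF A).card + 1 = Nat.card A := by
    intro A
    rw [Finset.card_erase_add_one (by simp [zero_mem]), Nat.card_eq_fintype_card,
      Fintype.subtype_card]
    simp
  let T : Finset H := Finset.univ.filter fun t =>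
    Max V t ∧ Z V a b ≤ fix t ∧ (U t : AddSubgroup V) ≤ M V a b
  let F : H → Finset V := fun t => toF (M V a b ⊓ fix t)
  let G : H → Finset V := fun t => toF (U t)
  have hF : ∀ t ∈ T, (F t).card + 1 ≤ q := by
    intro t ht
    simp only [T, Finset.mem_filter] at ht
    rw [toF_card]
    have hdis : Z V a b ⊓ (M V a b ⊓ fix t) = ⊥ := by
      rw [eq_bot_iff, ← h.M_inf_Z D, inf_comm (M V a b) (Z V a b)]
      exact inf_le_inf_left _ inf_le_left
    have h1 := card_mul_le hdis ht.2.2.1 inf_le_right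
    rw [h.card_fix_member D ht.2.1 ht.2.2.1] at h1
    exact Nat.le_of_mul_le_mul_left h1 Nat.card_pos
  have hG : ∀ t ∈ T, (G t).card + 1 = q := by
    intro t ht
    simp only [T, Finset.mem_filter] at ht
    rw [toF_card, h.card_member D ht.2.1 ht.2.2.1]
  have hcov : toF (M V a b) ⊆ T.biUnion F := by
    intro x hx
    rw [toF_mem] at hx
    have hxZ : x ∉ Z V a b := fun hz => hx.1 (by
      have : x ∈ M V a b ⊓ Z V a b := ⟨hx.2, hz⟩
      rw [h.M_inf_Z D] at this
      exact AddSubgroup.mem_bot.1 this)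
    obtain ⟨k, hk, hZk, hkx, hUk⟩ := h.member_at D hxZ
    rw [Finset.mem_biUnion]
    exact ⟨k, by simp [T, hk, hZk, hUk], by rw [toF_mem]; exact ⟨hx.1, hx.2, hkx⟩⟩
  have hdisj : (T : Set H).PairwiseDisjoint G := by
    intro s hs t ht hne
    simp only [T, Finset.coe_filter, Set.mem_ofPred_eq] at hs ht
    rw [Function.onFun, Finset.disjoint_left]
    intro v hv hv'
    rw [toF_mem] at hv hv'
    exact hne (hs.2.1.eq_of_U D ht.2.1 hv.2 hv'.2 hv.1)
  have hsub : T.biUnion G ⊆ toF (M V a b) := by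
    intro x hx
    obtain ⟨t, ht, hxt⟩ := Finset.mem_biUnion.1 hx
    simp only [T, Finset.mem_filter] at ht
    rw [toF_mem] at hxt ⊢
    exact ⟨hxt.1, ht.2.2.2 hxt.2⟩
  have heq : T.biUnion G = toF (M V a b) := by
    refine Finset.eq_of_subset_of_card_le hsub ?_
    calc (toF (M V a b)).card ≤ (T.biUnion F).card := Finset.card_le_card hcov
      _ ≤ ∑ t ∈ T, (F t).card := Finset.card_biUnion_le
      _ ≤ ∑ t ∈ T, (G t).card := Finset.sum_le_sum fun t ht => by
          have := hF t ht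
          have := hG t ht
          omega
      _ = (T.biUnion G).card := (Finset.card_biUnion hdisj).symm
  have hmem : m ∈ T.biUnion G := by rw [heq, toF_mem]; exact ⟨hm0, hm⟩
  obtain ⟨t, ht, hmt⟩ := Finset.mem_biUnion.1 hmem
  simp only [T, Finset.mem_filter] at ht
  rw [toF_mem] at hmt
  exact ⟨t, ht.2.1, ht.2.2.1, hmt.2, ht.2.2.2⟩

end NC

end CfsgLib.BinAff
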