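import Cfsg.Agent.Lib.BinaryAffine.Kill

/-!
All elements with maximal fixed spaces lie in one plane.
-/

set_option autoImplicit false
set_option linter.unusedSectionVars false
set_option linter.style.haveILetI false

namespace CfsgLib.BinAff

variable {H V : Type*} [Group H] [AddCommGroup V] [DistribMulAction H V]

theorem mem_of_forall_or {A B C : AddSubgroup V} (h : ∀ x ∈ C, x ∈ A ∨ x ∈ B) :
    C ≤ A ∨ C ≤ B := by
  by_contra hc
  push Not at hc
  obtain ⟨⟨x, hx, hxA⟩, y, hy, hyB⟩ := And.intro (SetLike.not_le_iff_exists.1 hc.1)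
    (SetLike.not_le_iff_exists.1 hc.2)
  have hxB : x ∈ B := (h x hx).resolve_left hxA
  have hyA : y ∈ A := (h y hy).resolve_right hyB
  rcases h (x + y) (add_mem hx hy) with h1 | h1
  · exact hxA ((AddSubgroup.add_mem_cancel_right A hyA).1 h1)
  · exact hyB ((AddSubgroup.add_mem_cancel_left B hxB).1 h1)

theorem eq_bot_or_top (D : Data H V) (P : AddSubgroup V) (hP : ∀ h : H, ∀ v ∈ P, h • v ∈ P)
    {t : H} (hle : P ≤ fix t) (ht : t ≠ 1) : P = ⊥ :=
  (D.irr P hP).resolve_right fun e => by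
    obtain ⟨y, hy⟩ := fix_ne_top (V := V) D ht
    exact hy (hle (e ▸ trivial))

/-- If every point is fixed by a nontrivial element, there is a non-commuting pair. -/
theorem exists_nc (D : Data H V) (hx : ∀ x : V, x ≠ 0 → ∃ h : H, h ≠ 1 ∧ h • x = x)
    (hV : ∃ x : V, x ≠ 0) : ∃ r s : H, NC V r s := by
  classical
  haveI := D.finH
  letI := Fintype.ofFinite H
  obtain ⟨x₀, hx₀⟩ := hV
  obtain ⟨h₀, hh₀, -⟩ := hx x₀ hx₀
  obtain ⟨t₀, ht₀, -⟩ := exists_max (V := V) D hh₀
  have hfixed : ∀ x : V, ∃ t : H, Max V t ∧ t • x = x := by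
    intro x
    by_cases hx0 : x = 0
    · exact ⟨t₀, ht₀, by rw [hx0, smul_zero]⟩
    obtain ⟨h, hh, hhx⟩ := hx x hx0
    obtain ⟨t, ht, hle⟩ := exists_max (V := V) D hh
    exact ⟨t, ht, hle hhx⟩
  by_contra hall
  have hcomm : ∀ r s : H, Max V r → Max V s → r * s = s * r := fun r s hr hs => by
    by_contra hne
    exact hall ⟨r, s, hr, hs, hne⟩
  rcases D.two with h2 | h2
  · let W : AddSubgroup V := ⨅ t : H, ⨅ _ : Max V t, fix t
    have memW : ∀ {v : V}, v ∈ W ↔ ∀ t : H, Max V t → t • v = v := by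
      intro v
      simp only [W, AddSubgroup.mem_iInf, mem_fix]
    have hinv : ∀ h : H, ∀ v ∈ W, h • v ∈ W := fun h v hv => memW.2 fun t ht => by
      have := memW.1 hv _ (ht.conj_max h⁻¹)
      rw [inv_inv, mul_smul, mul_smul, inv_smul_eq_iff] at this
      exact this
    have hbot := eq_bot_or_top D W hinv (fun v hv => memW.1 hv t₀ ht₀) ht₀.1
    refine U_ne_bot (V := V) D ht₀.1 (eq_bot_iff.2 fun d hd => ?_)
    rw [← hbot]
    refine memW.2 fun t ht => ?_
    by_cases e : t₀ = t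
    · exact e ▸ ht₀.fix_of_two D h2 hd
    · exact ht₀.U_le_fix_of_comm D ht e (hcomm _ _ ht₀ ht) hd
  · have hd : ∀ t : {t : H // Max V t}, ∃ d ∈ (U (t : H) : AddSubgroup V), d ≠ 0 :=
      fun t => exists_ne_zero (U_ne_bot (V := V) D t.2.1)
    choose u hu hu0 using hd
    obtain ⟨s, hs, hsx⟩ := hfixed (∑ t, u t)
    let s' : {t : H // Max V t} := ⟨s, hs⟩
    have h1 : ∀ t ∈ (Finset.univ : Finset {t : H // Max V t}).erase s', s • u t = u t := by
      intro t ht
      exact t.2.U_le_fix_of_comm D hs (fun e => Finset.ne_of_mem_erase ht (Subtype.ext e))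
        (hcomm _ _ t.2 hs) (hu t)
    rw [← Finset.add_sum_erase _ _ (Finset.mem_univ s'), smul_add, Finset.smul_sum,
      Finset.sum_congr rfl h1, hs.smul_U D (hu s'), add_right_cancel_iff] at hsx
    exact hu0 s' (h2 _ (add_eq_zero_iff_eq_neg.2 hsx.symm))

namespace NC

variable {a b t : H}

/-- A member not commuting with a given member. -/
theorem exists_nc_member (D : Data H V) (h : NC V a b) (ht : Max V t)
    (hU : (U t : AddSubgroup V) ≤ M V a b) :
    ∃ c : H, NC V t c ∧ (U c : AddSubgroup V) ≤ M V a b := by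
  have hZ := h.member_Z D ht hU
  by_cases hca : t * a = a * t
  · exact ⟨b, ⟨ht, h.hb, fun e => h.isolation D ht hZ hca e⟩, le_sup_right⟩
  · exact ⟨a, ⟨ht, h.ha, hca⟩, le_sup_left⟩

/-- An element outside the plane commutes with every member. -/
theorem outside_comm (D : Data H V) (h : NC V a b) (ht : Max V t)
    (hout : ¬ (U t : AddSubgroup V) ≤ M V a b) {c : H} (hc : Max V c)
    (hcU : (U c : AddSubgroup V) ≤ M V a b) : t * c = c * t := by
  haveI := D.finV
  by_contra hne
  have htc : NC V t c := ⟨ht, hc, hne⟩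
  have hne' : M V a b ⊓ fix t ≠ ⊥ := by
    intro hbot
    have h1 := card_le_inf_mul (M V a b) t
    rw [hbot, AddSubgroup.card_bot, one_mul, h.card_M D, htc.card_eq D,
      h.card_member D hc (h.member_Z D hc hcU)] at h1
    have := one_lt_card_U (V := V) D h.ha.1
    nlinarith
  obtain ⟨d, ⟨hdM, hdt⟩, hd0⟩ := exists_ne_zero hne'
  obtain ⟨a', ha', -, hda', hU'⟩ := h.member_U D hdM hd0
  have hta' : t * a' = a' * t := ha'.stab_comm D hda' hd0 hdt
  have hne_ta' : t ≠ a' := fun e => hout (e ▸ hU')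
  have hca' : c ≠ a' := fun e => hne (e ▸ hta')
  by_cases hcomm : a' * c = c * a'
  · -- find a third member
    obtain ⟨u, hu, hu0⟩ := exists_ne_zero (U_ne_bot (V := V) D hc.1)
    have hdu0 : d + u ≠ 0 := fun e => by
      have h3 : d ∈ (U a' : AddSubgroup V) ⊓ U c :=
        ⟨hda', by rw [eq_neg_of_add_eq_zero_left e]; exact AddSubgroup.neg_mem _ hu⟩
      rw [ha'.U_inf_U D hc (Ne.symm hca')] at h3
      exact hd0 (AddSubgroup.mem_bot.1 h3)
    obtain ⟨c', hc', -, hduc', hU''⟩ := h.member_U D (add_mem hdM (hcU hu)) hdu0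
    have hc'a' : c' ≠ a' := fun e => by
      have h3 : u ∈ (U a' : AddSubgroup V) ⊓ U c :=
        ⟨(AddSubgroup.add_mem_cancel_left _ hda').1 (e ▸ hduc'), hu⟩
      rw [ha'.U_inf_U D hc (Ne.symm hca')] at h3
      exact hu0 (AddSubgroup.mem_bot.1 h3)
    have hc'c : c' ≠ c := fun e => by
      have h3 : d ∈ (U a' : AddSubgroup V) ⊓ U c :=
        ⟨hda', (AddSubgroup.add_mem_cancel_right _ hu).1 (e ▸ hduc')⟩
      rw [ha'.U_inf_U D hc (Ne.symm hca')] at h3
      exact hd0 (AddSubgroup.mem_bot.1 h3)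
    have htc' : NC V t c' := by
      refine ⟨ht, hc', fun e => ?_⟩
      obtain ⟨w, hw, hw0⟩ := exists_ne_zero (U_ne_bot (V := V) D hc.1)
      have hle : M V a b ≤ fix t := by
        rw [← h.span_eq D ha' hc' (Ne.symm hc'a') hU' hU'']
        exact sup_le (ha'.U_le_fix_of_comm D ht (Ne.symm hne_ta') hta'.symm)
          (hc'.U_le_fix_of_comm D ht (fun e' => hout (e' ▸ hU'')) e.symm)
      exact htc.symm.not_fix D hw hw0 (hle (hcU hw))
    have hac' : NC V a' c' := by
      refine ⟨ha', hc', fun e => ?_⟩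
      have hle : M V a b ≤ fix a' := by
        rw [← h.span_eq D hc hc' (Ne.symm hc'c) hcU hU'']
        exact sup_le (hc.U_le_fix_of_comm D ha' hca' hcomm.symm)
          (hc'.U_le_fix_of_comm D ha' hc'a' e.symm)
      obtain ⟨c'', hnc, hU3⟩ := h.exists_nc_member D ha' hU'
      obtain ⟨w, hw, hw0⟩ := exists_ne_zero (U_ne_bot (V := V) D hnc.hb.1)
      exact hnc.symm.not_fix D hw hw0 (hle (hU3 hw))
    refine hout ((kill D htc' hac' hne_ta' hta').trans (sup_le hU' hU''))
  · exact hout ((kill D htc ⟨ha', hc, hcomm⟩ hne_ta' hta').trans (sup_le hU' hcU))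

theorem outside_U (D : Data H V) (h : NC V a b) (ht : Max V t)
    (hout : ¬ (U t : AddSubgroup V) ≤ M V a b) : (U t : AddSubgroup V) ≤ Z V a b :=
  le_inf
    (ht.U_le_fix_of_comm D h.ha (fun e => hout (e ▸ le_sup_left))
      (h.outside_comm D ht hout h.ha le_sup_left))
    (ht.U_le_fix_of_comm D h.hb (fun e => hout (e ▸ le_sup_right))
      (h.outside_comm D ht hout h.hb le_sup_right))

/-- A translate of the plane is the plane or lies in the common fixed space. -/
theorem translate_plane (D : Data H V) (h : NC V a b) (f : H) :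
    (∀ m ∈ M V a b, f • m ∈ M V a b) ∨ ∀ m ∈ M V a b, f • m ∈ Z V a b := by
  have hA := h.ha.conj_max f
  have hB := h.hb.conj_max f
  have hmem : ∀ {W : AddSubgroup V}, (U (f * a * f⁻¹) : AddSubgroup V) ≤ W →
      (U (f * b * f⁻¹) : AddSubgroup V) ≤ W → ∀ m ∈ M V a b, f • m ∈ W := by
    intro W h1 h2 m hm
    obtain ⟨u, hu, u', hu', rfl⟩ := AddSubgroup.mem_sup.1 hm
    rw [smul_add]
    exact add_mem (h1 (Max.smul_mem_U_conj f hu)) (h2 (Max.smul_mem_U_conj f hu'))
  have hne : f * a * f⁻¹ * (f * b * f⁻¹) ≠ f * b * f⁻¹ * (f * a * f⁻¹) := fun e => h.ne (by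
    have e' : f * (a * b) * f⁻¹ = f * (b * a) * f⁻¹ := by
      calc f * (a * b) * f⁻¹ = f * a * f⁻¹ * (f * b * f⁻¹) := by group
        _ = f * b * f⁻¹ * (f * a * f⁻¹) := e
        _ = f * (b * a) * f⁻¹ := by group
    exact mul_left_cancel (mul_right_cancel e'))
  by_cases hA' : (U (f * a * f⁻¹) : AddSubgroup V) ≤ M V a b
  · by_cases hB' : (U (f * b * f⁻¹) : AddSubgroup V) ≤ M V a b
    · exact Or.inl (hmem hA' hB')
    · exact absurd (h.outside_comm D hB hB' hA hA') (Ne.symm hne)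
  · by_cases hB' : (U (f * b * f⁻¹) : AddSubgroup V) ≤ M V a b
    · exact absurd (h.outside_comm D hA hA' hB hB') hne
    · exact Or.inr (hmem (h.outside_U D hA hA') (h.outside_U D hB hB'))

theorem stable_of_mem (D : Data H V) (h : NC V a b) {f : H} {w : V} (hw : w ∈ M V a b)
    (hw0 : w ≠ 0) (hfw : f • w ∈ M V a b) : ∀ m ∈ M V a b, f • m ∈ M V a b := by
  refine (h.translate_plane D f).resolve_right fun hZ => ?_
  have h3 : f • w ∈ M V a b ⊓ Z V a b := ⟨hfw, hZ w hw⟩
  rw [h.M_inf_Z D, AddSubgroup.mem_bot, smul_eq_zero_iff_eq] at h3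
  exact hw0 h3

/-- An element fixing a displacement of a member acts on the plane like `1` or its perpendicular. -/
theorem fix_dichotomy (D : Data H V) (h : NC V a b) {c g : H} (hc : Max V c)
    (hg : Max V g) (hgU : (U g : AddSubgroup V) = M V a b ⊓ fix c) {u : V}
    (hu : u ∈ (U c : AddSubgroup V)) (hu0 : u ≠ 0) (hcU : (U c : AddSubgroup V) ≤ M V a b)
    {f : H} (hfu : f • u = u) :
    (∀ m ∈ M V a b, f • m = m) ∨ ∀ m ∈ M V a b, f • m = g • m := by
  have hfM := h.stable_of_mem D (hcU hu) hu0 (by rw [hfu]; exact hcU hu)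
  have hfc : f * c = c * f := hc.stab_comm D hu hu0 hfu
  -- on the displacement space of `c`
  have hpm : ∀ d ∈ (U c : AddSubgroup V), f • d = d := by
    let A : AddSubgroup V := fix f
    let B : AddSubgroup V := fix (c * f)
    have hor : ∀ d ∈ (U c : AddSubgroup V), d ∈ A ∨ d ∈ B := by
      intro d hd
      by_cases e : f • d = d
      · exact Or.inl e
      right
      have hfd : d - f • d ∈ (U c : AddSubgroup V) := by
        refine sub_mem hd ?_
        obtain ⟨y, rfl⟩ := exists_of_mem_U hd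
        rw [smul_sub, ← mul_smul f, hfc, mul_smul]
        exact sub_mem_U c _
      obtain ⟨y, hy⟩ := exists_of_mem_U hfd
      have hyy : c • y ≠ y := fun e' => e (by
        rw [e', sub_self, eq_comm, sub_eq_zero] at hy
        exact hy.symm)
      have h1 := hc.rule D hyy (v := d) (h := f) (by rw [hy, sub_sub_cancel])
      rw [hy] at h1
      show (c * f) • d = d
      rw [mul_smul, ← sub_right_injective h1, hc.smul_smul_self D]
    rcases mem_of_forall_or hor with h1 | h1
    · exact fun d hd => h1 hd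
    · intro d hd
      have h2 : (c * f) • u = u := h1 hu
      rw [mul_smul, hfu, hc.smul_U D hu] at h2
      have h3 : (c * f) • d = d := h1 hd
      rw [mul_smul, hc.smul_U D (d := f • d) (by
        obtain ⟨y, rfl⟩ := exists_of_mem_U hd
        rw [smul_sub, ← mul_smul f, hfc, mul_smul]
        exact sub_mem_U c _), neg_eq_iff_eq_neg] at h3
      rw [h3]
      rcases D.two with e2 | e2
      · exact neg_eq_of_add_eq_zero_left (e2 d)
      · exact absurd (e2 u (add_eq_zero_iff_eq_neg.2 h2.symm)) hu0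
  have hor : ∀ m ∈ M V a b, m ∈ (fix f : AddSubgroup V) ∨ m ∈ (fix (g * f) : AddSubgroup V) := by
    intro m hm
    by_cases e : f • m = m
    · exact Or.inl e
    right
    have hfix : c • (m - f • m) = m - f • m := by
      have h1 : f • (m - c • m) = m - c • m := hpm _ (sub_mem_U c m)
      rw [smul_sub, ← mul_smul f, hfc, mul_smul] at h1
      rw [smul_sub, eq_comm, sub_eq_sub_iff_sub_eq_sub]
      exact h1.symm
    have hd : m - f • m ∈ (U g : AddSubgroup V) := by
      rw [hgU]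
      exact ⟨AddSubgroup.sub_mem _ hm (hfM m hm), hfix⟩
    obtain ⟨y, hy⟩ := exists_of_mem_U hd
    have hyy : g • y ≠ y := fun e' => e (by
      rw [e', sub_self, eq_comm, sub_eq_zero] at hy
      exact hy.symm)
    have h1 := hg.rule D hyy (v := m) (h := f) (by rw [hy, sub_sub_cancel])
    rw [hy] at h1
    show (g * f) • m = m
    rw [mul_smul, ← sub_right_injective h1, hg.smul_smul_self D]
  rcases mem_of_forall_or hor with h1 | h1
  · exact Or.inl fun m hm => h1 hm
  · refine Or.inr fun m hm => ?_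
    have h2 : (g * f) • m = m := h1 hm
    rw [mul_smul] at h2
    conv_rhs => rw [← h2]
    rw [hg.smul_smul_self D]

/-- The plane is invariant under the whole group. -/
theorem plane_invariant (D : Data H V) (h : NC V a b) (f : H) :
    ∀ m ∈ M V a b, f • m ∈ M V a b := by
  refine (h.translate_plane D f).resolve_right fun hfZ => ?_
  obtain ⟨u, hu, hu0⟩ := exists_ne_zero (U_ne_bot (V := V) D h.ha.1)
  have huM : u ∈ M V a b := AddSubgroup.mem_sup_left hu
  obtain ⟨j, hju, hjv, -⟩ := swapEl D f u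
  set v := f • u with hv
  have hvZ : v ∈ Z V a b := hfZ u huM
  have hjZ : ∀ m ∈ M V a b, j • m ∈ Z V a b := by
    refine (h.translate_plane D j).resolve_left fun hjM => ?_
    have h3 : v ∈ M V a b ⊓ Z V a b := ⟨hju ▸ hjM u huM, hvZ⟩
    rw [h.M_inf_Z D, AddSubgroup.mem_bot, hv, smul_eq_zero_iff_eq] at h3
    exact hu0 h3
  obtain ⟨g, hg, -, hgU, hgfix⟩ := h.exists_perp D h.ha le_sup_left
  have hgM : (U g : AddSubgroup V) ≤ M V a b := hgU.le.trans inf_le_left
  have hgu : g • u = u := hgfix hu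
  have hgZ : ∀ z ∈ Z V a b, g • z = z := fun z hz => h.member_Z D hg hgM hz
  -- an involution between the plane and its image
  obtain ⟨J, hJu, hJv, hJZ, hJJ⟩ : ∃ J : H, J • u = v ∧ J • v = u ∧
      (∀ m ∈ M V a b, J • m ∈ Z V a b) ∧ ∀ m ∈ M V a b, J • J • m = m := by
    rcases h.fix_dichotomy D h.ha hg hgU hu hu0 le_sup_left (f := j * j)
        (by rw [mul_smul, hju, hjv]) with e | e
    · exact ⟨j, hju, hjv, hjZ, fun m hm => by rw [← mul_smul, e m hm]⟩
    · refine ⟨g * j, ?_, ?_, fun m hm => ?_, fun m hm => ?_⟩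
      · rw [mul_smul, hju, hgZ v hvZ]
      · rw [mul_smul, hjv, hgu]
      · rw [mul_smul, hgZ _ (hjZ m hm)]
        exact hjZ m hm
      · rw [mul_smul, mul_smul, hgZ _ (hjZ m hm), ← mul_smul j, e m hm, hg.smul_smul_self D]
  obtain ⟨h0, hh0, hS⟩ := D.swap u v ⟨J, hJu⟩
  obtain ⟨w, hw, hw0⟩ := exists_ne_zero (U_ne_bot (V := V) D hg.1)
  obtain ⟨y, hy⟩ := exists_of_mem_U hw
  have hyM : y ∈ M V a b ⊔ Z V a b := by rw [h.M_sup_Z D]; trivial
  obtain ⟨m, hm, z, hz, rfl⟩ := AddSubgroup.mem_sup.1 hyM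
  rw [smul_add, hgZ z hz, add_sub_add_right_eq_sub] at hy
  have h1 : h0 • (m + J • m) = m + J • m :=
    hS _ ⟨J, by rw [smul_sub, smul_add, hJJ m hm, hJu, add_comm]⟩
  have h2 : h0 • (g • m + J • m) = g • m + J • m := hS _ ⟨g * J * g, by
    rw [mul_smul, mul_smul, smul_sub g (g • m + J • m) u, hgu, smul_add g, hg.smul_smul_self D,
      hgZ _ (hJZ m hm), smul_sub J, smul_add J, hJJ m hm, hJu, smul_sub g, smul_add g,
      hgZ _ (hJZ m hm), hgZ v hvZ, add_comm]⟩
  have h3 : h0 • w = w := by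
    rw [← hy, show m - g • m = (m + J • m) - (g • m + J • m) by abel, smul_sub, h1, h2]
  have h4 := h.stable_of_mem D (hgM hw) hw0 (by rw [h3]; exact hgM hw) u huM
  rw [hh0] at h4
  have h5 : v ∈ M V a b ⊓ Z V a b := ⟨h4, hvZ⟩
  rw [h.M_inf_Z D, AddSubgroup.mem_bot, hv, smul_eq_zero_iff_eq] at h5
  exact hu0 h5

/-- The plane is everything. -/
theorem M_eq_top (D : Data H V) (h : NC V a b) : M V a b = ⊤ := by
  refine (D.irr (M V a b) fun f m hm => h.plane_invariant D f m hm).resolve_left fun e => ?_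
  exact U_ne_bot (V := V) D h.ha.1 (eq_bot_iff.2 (e ▸ le_sup_left))

theorem Z_eq_bot (D : Data H V) (h : NC V a b) : Z V a b = ⊥ := by
  have := h.M_inf_Z D
  rwa [h.M_eq_top D, top_inf_eq] at this

theorem U_le (D : Data H V) (h : NC V a b) (t : H) : (U t : AddSubgroup V) ≤ M V a b := by
  rw [h.M_eq_top D]
  exact le_top

/-- The stabiliser of a nonzero point. -/
theorem stab (D : Data H V) (h : NC V a b) {x : V} (hx : x ≠ 0) :
    ∃ c : H, Max V c ∧ c • x = x ∧ ∀ f : H, f • x = x → f = 1 ∨ f = c := by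
  obtain ⟨t, ht, -, hxt, hU⟩ := h.member_U D (by rw [h.M_eq_top D]; trivial : x ∈ M V a b) hx
  obtain ⟨g, hg, -, hgU, hgfix⟩ := h.exists_perp D ht hU
  refine ⟨g, hg, hgfix hxt, fun f hf => ?_⟩
  rcases h.fix_dichotomy D ht hg hgU hxt hx hU hf with e | e
  · exact Or.inl (D.faithful f fun v => e v (by rw [h.M_eq_top D]; trivial))
  · refine Or.inr (inv_mul_eq_one.1 (D.faithful (f⁻¹ * g) fun v => ?_))
    rw [mul_smul, inv_smul_eq_iff, e v (by rw [h.M_eq_top D]; trivial)]

end NC

end CfsgLib.BinAff
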